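import Groth.Agent.DimLib.Cut

/-! Components and dimension of locally closed subsets. -/

universe u

open CategoryTheory AlgebraicGeometry Topology

namespace Groth.Agent.DimLib

variable {k : Type u} [Field k] {X Y : Scheme.{u}}

theorem topologicalKrullDim_locallyClosed_eq_iSup (p : X ⟶ Spec (.of k)) [LocallyOfFiniteType p] {S : Set X}
    (hS : IsLocallyClosed S) : topologicalKrullDim S = ⨆ x : S, (ptDim p x.1 : WithBot ℕ∞) := by
  obtain ⟨U, Z, hU, hZ, rfl⟩ := hS
  let U' : X.Opens := ⟨U, hU⟩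
  have hcl : IsClosed (U'.ι ⁻¹' Z) := hZ.preimage U'.ι.continuous
  let W : Set ↥(U' : Scheme.{u}) := U'.ι ⁻¹' Z
  let e : ↥W ≃ₜ ↥(U ∩ Z) :=
    { toFun := fun a => ⟨a.1.1, a.1.2, a.2⟩
      invFun := fun b => ⟨⟨b.1, b.2.1⟩, b.2.2⟩
      left_inv := fun _ => rfl
      right_inv := fun _ => rfl
      continuous_toFun := Continuous.subtype_mk (U'.ι.continuous.comp (continuous_subtype_val (p := (· ∈ W)))) _
      continuous_invFun := Continuous.subtype_mk (U'.ι.isEmbedding.continuous_iff.2 (show Continuous (fun b : ↥(U ∩ Z) => (b : X)) from continuous_subtype_val)) _ }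
  rw [← e.isHomeomorph.topologicalKrullDim_eq, topologicalKrullDim_closed_eq_iSup (U'.ι ≫ p) hcl,
    ← e.toEquiv.iSup_comp]
  refine iSup_congr fun a => ?_
  rw [ptDim_comp_preimmersion]
  rfl

theorem quasiSober_of_isLocallyClosed {S : Set X} (hS : IsLocallyClosed S) : QuasiSober S := by
  obtain ⟨U, Z, hU, hZ, rfl⟩ := hS
  have : QuasiSober U := hU.isOpenEmbedding_subtypeVal.quasiSober
  have h : IsClosedEmbedding (Set.inclusion (Set.inter_subset_left : U ∩ Z ⊆ U)) :=
    ⟨IsEmbedding.inclusion _, by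
      rw [Set.range_inclusion]
      convert hZ.preimage (continuous_subtype_val (p := (· ∈ U))) using 1
      ext ⟨a, ha⟩; simp⟩
  exact h.quasiSober

theorem forall_components_subset_iff (p : X ⟶ Spec (.of k)) [LocallyOfFiniteType p] {S : Set X}
    (hS : IsLocallyClosed S) (P : WithBot ℕ∞ → Prop) :
    (∀ Q ∈ irreducibleComponents S, P (topologicalKrullDim Q)) ↔
      ∀ η ∈ S, (∀ z ∈ S, z ⤳ η → η = z) → P (ptDim p η) := by
  have := quasiSober_of_isLocallyClosed hS
  have key : ∀ (Q : Set S) (η : S), IsGenericPoint η Q → topologicalKrullDim Q = (ptDim p η.1 : WithBot ℕ∞) := by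
    intro Q η hη
    have hlc : IsLocallyClosed (closure {η.1} ∩ S) := isClosed_closure.isLocallyClosed.inter hS
    have hQ : ∀ a : S, a ∈ Q ↔ a.1 ∈ closure ({η.1} : Set X) := fun a => by
      rw [← hη.def, closure_subtype, Set.image_singleton]
    let e : Q ≃ₜ (closure {η.1} ∩ S : Set X) :=
      { toFun := fun a => ⟨a.1.1, (hQ a.1).1 a.2, a.1.2⟩
        invFun := fun b => ⟨⟨b.1, b.2.2⟩, (hQ _).2 b.2.1⟩
        left_inv := fun _ => rfl
        right_inv := fun _ => rfl
        continuous_toFun := Continuous.subtype_mk (continuous_subtype_val.comp continuous_subtype_val) _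
        continuous_invFun := Continuous.subtype_mk (Continuous.subtype_mk continuous_subtype_val _) _ }
    rw [e.isHomeomorph.topologicalKrullDim_eq, topologicalKrullDim_locallyClosed_eq_iSup p hlc]
    refine le_antisymm (iSup_le fun x => ?_) (le_iSup (fun x : (closure {η.1} ∩ S : Set X) =>
      (ptDim p x.1 : WithBot ℕ∞)) ⟨η.1, subset_closure rfl, η.2⟩)
    exact_mod_cast ptDim_le_of_specializes p (specializes_iff_mem_closure.2 x.2.1)
  constructor
  · intro h η hη hmax
    rw [← key _ ⟨η, hη⟩ isGenericPoint_closure]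
    refine h _ ((mem_components_iff (⟨η, hη⟩ : S)).2 fun y hy => ?_)
    have : y = ⟨η, hη⟩ := Subtype.ext (hmax y.1 y.2 ((subtype_specializes_iff _ _).1 hy)).symm
    rw [this]
  · intro h Q hQ
    have hgp := hQ.1.isGenericPoint_genericPoint (isClosed_of_mem_irreducibleComponents Q hQ)
    rw [key Q _ hgp]
    refine h _ hQ.1.genericPoint.2 fun z hz hzη => ?_
    have := (mem_components_iff hQ.1.genericPoint).1 (by rw [hgp.def]; exact hQ) ⟨z, hz⟩
      ((subtype_specializes_iff _ _).2 hzη)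
    exact (((subtype_specializes_iff _ _).1 this).antisymm hzη).eq

theorem exists_maximal_mem (p : X ⟶ Spec (.of k)) [LocallyOfFiniteType p] {S : Set X} {y η : X}
    (hy : y ∈ S) (hbd : ∀ z ∈ S, z ⤳ y → η ⤳ z) :
    ∃ z ∈ S, z ⤳ y ∧ ∀ w ∈ S, w ⤳ z → z = w := by
  classical
  let P : ℕ → Prop := fun m => ∃ z ∈ S, z ⤳ y ∧ ptDim p z = m
  have hb : ∀ m, P m → m ≤ ptDim p η := by
    rintro m ⟨z, hz, hzy, rfl⟩
    exact ptDim_le_of_specializes p (hbd z hz hzy)
  obtain ⟨z, hz, hzy, hzm⟩ := Nat.findGreatest_spec (P := P) (hb _ ⟨y, hy, specializes_rfl, rfl⟩)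
    ⟨y, hy, specializes_rfl, rfl⟩
  refine ⟨z, hz, hzy, fun w hw hwz => (eq_of_specializes_of_ptDim_le p hwz ?_).symm⟩
  rw [hzm]
  exact Nat.le_findGreatest (hb _ ⟨w, hw, hwz.trans hzy, rfl⟩) ⟨w, hw, hwz.trans hzy, rfl⟩

/-- Cutting a closed irreducible subset by the equations of `ι` lowers dimension by at most their number. -/
theorem ptDim_le_add_of_minimal_preimage {W : Scheme.{u}} (p : Y ⟶ Spec (.of k)) [LocallyOfFiniteType p]
    (f : Y ⟶ X) (ι : W ⟶ X) {U : X.Opens} (hU : IsAffineOpen U) [IsClosedImmersion (ι ∣_ U)]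
    (rs : List Γ(X, U)) (hker : RingHom.ker (ι.app U).hom = Ideal.ofList rs) {η z : Y} (h : η ⤳ z)
    (hzU : f z ∈ U) (hz : f z ∈ Set.range ι)
    (hmin : ∀ w, η ⤳ w → w ⤳ z → f w ∈ Set.range ι → w = z) :
    ptDim p η ≤ ptDim p z + rs.length := by
  classical
  obtain ⟨V, hV, hzV, hVU⟩ := TopologicalSpace.Opens.isBasis_iff_nbhd.1 Y.isBasis_affineOpens (show z ∈ f ⁻¹ᵁ U from hzU)
  let g := f.appLE U V hVU
  have hmem : ∀ (w : Y) (r : Γ(X, U)), w ∈ V → (w ∈ Y.basicOpen (g r) ↔ f w ∈ X.basicOpen r) := by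
    intro w r hw
    have : Y.basicOpen (g r) = V ⊓ f ⁻¹ᵁ X.basicOpen r := Scheme.basicOpen_appLE f V U hVU r
    rw [this]
    exact ⟨fun h => h.2, fun h => ⟨hw, h⟩⟩
  refine le_trans (ptDim_le_add_of_minimal_zero p hV (rs.toFinset.image g) h hzV ?_ ?_) ?_
  · intro r' hr'
    obtain ⟨r, hr, rfl⟩ := Finset.mem_image.1 hr'
    rw [hmem z r hzV]
    exact (range_eq_zero_of_ker ι hU rs hker hzU).1 hz r hr
  · intro w h1 h2 hwV hw
    refine hmin w h1 h2 ((range_eq_zero_of_ker ι hU rs hker (hVU hwV)).2 fun r hr => ?_)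
    rw [← hmem w r hwV]
    exact hw _ (Finset.mem_image_of_mem _ hr)
  · exact add_le_add le_rfl (Finset.card_image_le.trans (List.toFinset_card_le rs))

end Groth.Agent.DimLib
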