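import Groth.Agent.DimLib.Product
import Groth.Agent.DimLib.Sub
import Mathlib.AlgebraicGeometry.Morphisms.UniversallyOpen

/-! Components of products and base changes. -/

universe u

open CategoryTheory CategoryTheory.Limits AlgebraicGeometry TensorProduct

namespace Groth.Agent.DimLib

variable {k : Type u} [Field k] {X Y : Scheme.{u}}

theorem flat_over_field (g : Y ⟶ Spec (CommRingCat.of k)) : Flat g := inferInstance

theorem maximal_apply_fst (f : X ⟶ Spec (.of k)) (g : Y ⟶ Spec (.of k)) {ζ : ↥(pullback f g)}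
    (h : ∀ z, z ⤳ ζ → ζ = z) : ∀ x, x ⤳ pullback.fst f g ζ → pullback.fst f g ζ = x :=
  have := flat_over_field g
  have : Flat (pullback.fst f g) := inferInstance
  isMax_apply_of_flat _ h

theorem maximal_apply_snd (f : X ⟶ Spec (.of k)) (g : Y ⟶ Spec (.of k)) {ζ : ↥(pullback f g)}
    (h : ∀ z, z ⤳ ζ → ζ = z) : ∀ y, y ⤳ pullback.snd f g ζ → pullback.snd f g ζ = y :=
  have := flat_over_field f
  have : Flat (pullback.snd f g) := inferInstance
  isMax_apply_of_flat _ h

section Product

variable (f : X ⟶ Spec (.of k)) (g : Y ⟶ Spec (.of k)) [LocallyOfFiniteType f] [LocallyOfFiniteType g]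

theorem ptDim_product_le (z : ↥(pullback f g)) :
    ptDim (pullback.fst f g ≫ f) z ≤ ptDim f (pullback.fst f g z) + ptDim g (pullback.snd f g z) := by
  obtain ⟨w, hw, -, -, e⟩ := exists_specializes_product f g z
  have : LocallyOfFiniteType (pullback.fst f g ≫ f) := inferInstance
  exact (ptDim_le_of_specializes _ hw).trans e.le

theorem ptDim_product_eq_of_maximal {z : ↥(pullback f g)} (h : ∀ w, w ⤳ z → z = w) :
    ptDim (pullback.fst f g ≫ f) z = ptDim f (pullback.fst f g z) + ptDim g (pullback.snd f g z) := by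
  obtain ⟨w, hw, -, -, e⟩ := exists_specializes_product f g z
  rwa [← h w hw] at e

theorem exists_product_point (x : X) (y : Y) :
    ∃ z, pullback.fst f g z = x ∧ pullback.snd f g z = y ∧
      ptDim (pullback.fst f g ≫ f) z = ptDim f x + ptDim g y := by
  obtain ⟨z, hz1, hz2⟩ := Scheme.Pullback.exists_preimage_pullback (f := f) (g := g) x y
    (Subsingleton.elim (α := PrimeSpectrum k) _ _)
  obtain ⟨w, -, h1, h2, e⟩ := exists_specializes_product f g z
  exact ⟨w, h1.trans hz1, h2.trans hz2, by rw [e, hz1, hz2]⟩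

end Product

section BaseChange

variable (f : X ⟶ Spec (.of k)) [LocallyOfFiniteType f] (K : Type u) [Field K] [Algebra k K]

/-- the projection to the base field `K` -/
noncomputable abbrev bcStr : pullback f (Spec.map (CommRingCat.ofHom (algebraMap k K))) ⟶ Spec (.of K) :=
  pullback.snd f (Spec.map (CommRingCat.ofHom (algebraMap k K)))

/-- the projection to the original scheme -/
noncomputable abbrev bcFst : pullback f (Spec.map (CommRingCat.ofHom (algebraMap k K))) ⟶ X :=
  pullback.fst f (Spec.map (CommRingCat.ofHom (algebraMap k K)))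

theorem ptDim_bc_le (z) : ptDim (bcStr f K) z ≤ ptDim f (bcFst f K z) := by
  obtain ⟨w, hw, -, e⟩ := exists_specializes_bc f K z
  exact (ptDim_le_of_specializes _ hw).trans e.le

theorem ptDim_bc_eq_of_maximal {z} (h : ∀ w, w ⤳ z → bcFst f K w = bcFst f K z → z = w) :
    ptDim (bcStr f K) z = ptDim f (bcFst f K z) := by
  obtain ⟨w, hw, h1, e⟩ := exists_specializes_bc f K z
  rwa [← h w hw h1] at e

theorem exists_bc_point (x : X) :
    ∃ z, bcFst f K z = x ∧ ptDim (bcStr f K) z = ptDim f x := by
  obtain ⟨z, hz1, -⟩ := Scheme.Pullback.exists_preimage_pullback (f := f)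
    (g := Spec.map (CommRingCat.ofHom (algebraMap k K))) x (IsLocalRing.closedPoint K)
    (Subsingleton.elim (α := PrimeSpectrum k) _ _)
  obtain ⟨w, -, h1, e⟩ := exists_specializes_bc f K z
  exact ⟨w, h1.trans hz1, by rw [e]; exact congrArg _ hz1⟩

theorem topologicalKrullDim_bc :
    topologicalKrullDim ↥(pullback f (Spec.map (CommRingCat.ofHom (algebraMap k K)))) = topologicalKrullDim X := by
  rw [topologicalKrullDim_eq_iSup (bcStr f K), topologicalKrullDim_eq_iSup f]
  refine le_antisymm (iSup_le fun z => le_trans (by exact_mod_cast ptDim_bc_le f K z)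
    (le_iSup (fun x : X => (ptDim f x : WithBot ℕ∞)) _)) (iSup_le fun x => ?_)
  obtain ⟨z, -, e⟩ := exists_bc_point f K x
  exact le_trans (by rw [e]) (le_iSup (fun z => (ptDim (bcStr f K) z : WithBot ℕ∞)) z)

end BaseChange

end Groth.Agent.DimLib
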