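import Groth.Agent.DimLib.Fibre
import Groth.Agent.H8Top.Noetherian
import Mathlib.AlgebraicGeometry.Morphisms.FinitePresentation
import Mathlib.Topology.JacobsonSpace

/-! Closed subsets, components and irreducibility criteria via fibre dimension. -/

universe u

open CategoryTheory AlgebraicGeometry Topology

namespace Groth.Agent.DimLib

variable {k : Type u} [Field k] {X Y : Scheme.{u}}

theorem topologicalKrullDim_closed_eq_iSup (p : X ⟶ Spec (.of k)) [LocallyOfFiniteType p] {Z : Set X}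
    (hZ : IsClosed Z) : topologicalKrullDim Z = ⨆ x : Z, (ptDim p x.1 : WithBot ℕ∞) := by
  have : QuasiSober Z := hZ.isClosedEmbedding_subtypeVal.quasiSober
  have e : topologicalKrullDim Z = Order.krullDim Z :=
    Order.krullDim_eq_of_orderIso (show TopologicalSpace.IrreducibleCloseds Z ≃o Z from
      { toEquiv := (@irreducibleSetEquivPoints Z _ _ _).toEquiv
        map_rel_iff' := fun {a b} => by
          refine Iff.trans ?_ (@irreducibleSetEquivPoints Z _ _ _).map_rel_iff
          show ((@irreducibleSetEquivPoints Z _ _ _) b).1 ⤳ ((@irreducibleSetEquivPoints Z _ _ _) a).1 ↔ _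
          exact (subtype_specializes_iff _ _).symm })
  have hmono : StrictMono (fun x : Z => x.1) := fun a b hab => hab
  have hlift : ∀ (a : Z) (b : X), b < a.1 → ∃ a' : Z, a' < a ∧ a'.1 = b := fun a b hb => by
    have hs : a.1 ⤳ b := Scheme.le_iff_specializes.1 hb.le
    exact ⟨⟨b, hs.mem_closed hZ a.2⟩, hb, rfl⟩
  rw [e]
  rcases isEmpty_or_nonempty Z with h | h
  · rw [Order.krullDim_eq_bot, iSup_of_empty]
  · rw [Order.krullDim_eq_iSup_height]
    refine iSup_congr fun x => ?_
    rw [Order.height_eq_of_strictMono _ hmono hlift x, height_eq_ptDim p x.1]; rfl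

theorem topologicalKrullDim_eq_ptDim_of_isGenericPoint (p : X ⟶ Spec (.of k)) [LocallyOfFiniteType p]
    {Z : Set X} {η : X} (hη : IsGenericPoint η Z) : topologicalKrullDim Z = (ptDim p η : WithBot ℕ∞) := by
  rw [topologicalKrullDim_closed_eq_iSup p hη.isClosed]
  refine le_antisymm (iSup_le fun x => ?_) (le_iSup (fun x : Z => (ptDim p x.1 : WithBot ℕ∞)) ⟨η, hη.mem⟩)
  by_cases h : η = x.1
  · rw [h]
  · exact_mod_cast (ptDim_lt_of_specializes p (hη.specializes x.2) h).le

theorem isClosed_singleton_image (p : X ⟶ Spec (.of k)) (f : Y ⟶ X) [LocallyOfFiniteType p]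
    [LocallyOfFiniteType (f ≫ p)] {y : Y} (hy : IsClosed ({y} : Set Y)) : IsClosed ({f y} : Set X) := by
  have := ptDim_apply_le p f y
  rw [(ptDim_eq_zero_iff (f ≫ p) y).2 hy] at this
  exact (ptDim_eq_zero_iff p (f y)).1 (by omega)

theorem exists_isClosed_singleton_mem (p : X ⟶ Spec (.of k)) [LocallyOfFiniteType p] {S : Set X}
    (hne : S.Nonempty) (hS : IsLocallyClosed S) : ∃ x ∈ S, IsClosed ({x} : Set X) := by
  have : JacobsonSpace X := LocallyOfFiniteType.jacobsonSpace p
  exact nonempty_inter_closedPoints hne hS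

/-- The image of an open neighbourhood of `η` contains an open piece of `closure {f η}`. -/
theorem exists_open_subset_image (p : X ⟶ Spec (.of k)) (f : Y ⟶ X) [LocallyOfFiniteType p] [QuasiCompact p]
    [LocallyOfFiniteType (f ≫ p)] [QuasiCompact (f ≫ p)] {U : Set Y} (hU : IsOpen U) {η : Y} (hη : η ∈ U) :
    ∃ V : Set X, IsOpen V ∧ f η ∈ V ∧ ∀ x ∈ V, f η ⤳ x → x ∈ f '' U := by
  have : LocallyOfFiniteType f := locallyOfFiniteType_of_comp f p
  have : IsLocallyNoetherian X := LocallyOfFiniteType.isLocallyNoetherian p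
  have : CompactSpace X := QuasiCompact.compactSpace_of_compactSpace p
  have : IsNoetherian X := {}
  have : IsLocallyNoetherian Y := LocallyOfFiniteType.isLocallyNoetherian (f ≫ p)
  have : CompactSpace Y := QuasiCompact.compactSpace_of_compactSpace (f ≫ p)
  have : IsNoetherian Y := {}
  have : LocallyOfFinitePresentation f := LocallyOfFinitePresentation.iff_locallyOfFiniteType.2 inferInstance
  have : QuasiCompact f := by
    refine ⟨fun s hs hc => ?_⟩
    exact TopologicalSpace.NoetherianSpace.isCompact _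
  have hc : IsConstructible (f '' U) :=
    f.isConstructible_image (Groth.Agent.H8Top.isConstructible_of_isOpen hU)
  obtain ⟨O, hO, hsub, hmem⟩ : ∃ O : Set X, IsOpen O ∧ O ∩ closure {f η} ⊆ f '' U ∧ f η ∈ O := by
    obtain ⟨L, hL, hLU, hmem⟩ : ∃ L : Set X, IsLocallyClosed L ∧ L ⊆ f '' U ∧ f η ∈ L := by
      obtain ⟨n, L, hL, e⟩ := Groth.Agent.H8Top.IsFinUnionLC.of_isConstructible hc
      obtain ⟨i, hi⟩ := Set.mem_iUnion.1 (e.subset (Set.mem_image_of_mem f hη))
      exact ⟨L i, hL i, e ▸ Set.subset_iUnion L i, hi⟩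
    obtain ⟨O, C, hO, hC, rfl⟩ := hL
    exact ⟨O, hO, fun x hx => hLU ⟨hx.1, closure_minimal (Set.singleton_subset_iff.2 hmem.2) hC hx.2⟩, hmem.1⟩
  exact ⟨O, hO, hmem, fun x hx hs => hsub ⟨hx, specializes_iff_mem_closure.1 hs⟩⟩

/-- Generic point and exclusive open set of a component. -/
theorem exists_component_data [TopologicalSpace.NoetherianSpace Y] {Z : Set Y} (hZ : Z ∈ irreducibleComponents Y) :
    ∃ (η : Y) (U : Set Y), IsGenericPoint η Z ∧ IsOpen U ∧ η ∈ U ∧ U ⊆ Z ∧
      ∀ Z' ∈ irreducibleComponents Y, Z' ≠ Z → Disjoint U Z' := by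
  obtain ⟨η, hη⟩ := QuasiSober.sober (S := Z) hZ.1 (isClosed_of_mem_irreducibleComponents Z hZ)
  have hfin := TopologicalSpace.NoetherianSpace.finite_irreducibleComponents (α := Y)
  refine ⟨η, (⋃₀ (irreducibleComponents Y \ {Z}))ᶜ, hη, ?_, ?_, ?_, ?_⟩
  · rw [Set.sUnion_eq_biUnion]
    exact ((hfin.sdiff).isClosed_biUnion fun Z' hZ' => isClosed_of_mem_irreducibleComponents Z' hZ'.1).isOpen_compl
  · rintro ⟨Z', ⟨hZ', hne⟩, hmem⟩
    refine hne (Eq.symm (hZ.eq_of_subset hZ'.1 ?_))
    rw [← hη.def]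
    exact closure_minimal (Set.singleton_subset_iff.2 hmem) (isClosed_of_mem_irreducibleComponents Z' hZ')
  · intro y hy
    by_contra h
    refine hy ⟨irreducibleComponent y, ⟨irreducibleComponent_mem_irreducibleComponents y, fun e => h ?_⟩, mem_irreducibleComponent⟩
    exact (show irreducibleComponent y = Z from e) ▸ mem_irreducibleComponent
  · intro Z' hZ' hne
    exact Set.disjoint_left.2 fun y hy hy' => hy ⟨Z', ⟨hZ', hne⟩, hy'⟩

/-- Two components dominating the irreducible target coincide, if general closed fibres are irreducible. -/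
theorem component_unique_of_irreducible_fibres (p : X ⟶ Spec (.of k)) (f : Y ⟶ X) [LocallyOfFiniteType p] [QuasiCompact p]
    [LocallyOfFiniteType (f ≫ p)] [QuasiCompact (f ≫ p)] [IrreducibleSpace X] (V : Set X) (hV : IsOpen V) (hVne : V.Nonempty)
    (hirr : ∀ x ∈ V, IsClosed ({x} : Set X) → IsIrreducible (f.base ⁻¹' {x}))
    {Z Z' : Set Y} (hZ : Z ∈ irreducibleComponents Y) (hZ' : Z' ∈ irreducibleComponents Y)
    (hd : Dense (f.base '' Z)) (hd' : Dense (f.base '' Z')) : Z = Z' := by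
  have : IsLocallyNoetherian Y := LocallyOfFiniteType.isLocallyNoetherian (f ≫ p)
  have : CompactSpace Y := QuasiCompact.compactSpace_of_compactSpace (f ≫ p)
  have : IsNoetherian Y := {}
  by_contra hne
  obtain ⟨η, U, hη, hU, hηU, hUZ, hUd⟩ := exists_component_data hZ
  obtain ⟨η', U', hη', hU', hηU', hUZ', -⟩ := exists_component_data hZ'
  have gen : ∀ {η : Y} {Z : Set Y}, IsGenericPoint η Z → Dense (f.base '' Z) → f η = genericPoint X := by
    intro η Z hη hd
    refine ((genericPoint_spec X).eq ?_).symm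
    show closure {f η} = _
    rw [← Set.univ_subset_iff, ← hd.closure_eq]
    refine closure_minimal ?_ isClosed_closure
    rintro _ ⟨z, hz, rfl⟩
    exact specializes_iff_mem_closure.1 ((hη.specializes hz).map f.continuous)
  obtain ⟨W, hW, hWη, hWU⟩ := exists_open_subset_image p f hU hηU
  obtain ⟨W', hW', hWη', hWU'⟩ := exists_open_subset_image p f hU' hηU'
  rw [gen hη hd] at hWη hWU
  rw [gen hη' hd'] at hWη' hWU'
  obtain ⟨v, hv⟩ := hVne
  obtain ⟨x, ⟨⟨hxW, hxW'⟩, hxV⟩, hx⟩ := exists_isClosed_singleton_mem p (S := W ∩ W' ∩ V)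
    ⟨genericPoint X, ⟨hWη, hWη'⟩, (genericPoint_specializes v).mem_open hV hv⟩ ((hW.inter hW').inter hV).isLocallyClosed
  obtain ⟨a, haU, ha⟩ := hWU x hxW (genericPoint_specializes x)
  obtain ⟨b, hbU, hb⟩ := hWU' x hxW' (genericPoint_specializes x)
  obtain ⟨c, -, hc, hc'⟩ := (hirr x hxV hx).2 U U' hU hU' ⟨a, ha, haU⟩ ⟨b, hb, hbU⟩
  exact Set.disjoint_left.1 (hUd Z' hZ' (Ne.symm hne)) hc (hUZ' hc')

/-- A component of the source, its image closure, and the dimension of irreducible fibres. -/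
theorem topologicalKrullDim_component_eq (p : X ⟶ Spec (.of k)) (f : Y ⟶ X) [LocallyOfFiniteType p]
    [LocallyOfFiniteType (f ≫ p)] [QuasiCompact (f ≫ p)] (d : ℕ)
    (hirr : ∀ x : X, IsClosed ({x} : Set X) → IsIrreducible (f.base ⁻¹' {x}))
    (hdim : ∀ x : X, IsClosed ({x} : Set X) → topologicalKrullDim ↥(f.base ⁻¹' {x}) = d)
    {Z : Set Y} (hZ : Z ∈ irreducibleComponents Y) :
    (∀ x : X, IsClosed ({x} : Set X) → (f.base ⁻¹' {x} ∩ Z).Nonempty → f.base ⁻¹' {x} ⊆ Z) ∧
    topologicalKrullDim Z = d + topologicalKrullDim (closure (f.base '' Z)) := by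
  have : IsLocallyNoetherian Y := LocallyOfFiniteType.isLocallyNoetherian (f ≫ p)
  have : CompactSpace Y := QuasiCompact.compactSpace_of_compactSpace (f ≫ p)
  have : IsNoetherian Y := {}
  obtain ⟨η, U, hη, hU, hηU, hUZ, -⟩ := exists_component_data hZ
  have hZcl := isClosed_of_mem_irreducibleComponents Z hZ
  have hgen : ∀ x : X, IsClosed ({x} : Set X) → ∃ g, IsGenericPoint g (f.base ⁻¹' {x}) ∧ ptDim (f ≫ p) g = d := by
    intro x hx
    obtain ⟨g, hg⟩ := QuasiSober.sober (hirr x hx) (hx.preimage f.continuous)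
    have := topologicalKrullDim_eq_ptDim_of_isGenericPoint (f ≫ p) hg
    rw [hdim x hx] at this
    exact ⟨g, hg, by exact_mod_cast this.symm⟩
  have himg : IsGenericPoint (f η) (closure (f.base '' Z)) := hη.image f.continuous
  -- lower bound, at the generic point of a component of a fibre of `Z`
  have lower : ∀ x : X, IsClosed ({x} : Set X) → ∀ g, IsGenericPoint g (f.base ⁻¹' {x}) → (f.base ⁻¹' {x} ∩ Z).Nonempty →
      ∃ z ∈ Z, g ⤳ z ∧ ptDim (f ≫ p) η ≤ ptDim p (f η) + ptDim (f ≫ p) z := by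
    intro x hx g hg hne
    obtain ⟨w, hwx, hwZ⟩ := hne
    have hcl : IsClosed (f.base ⁻¹' {x} ∩ Z) := (hx.preimage f.continuous).inter hZcl
    have : QuasiSober (f.base ⁻¹' {x} ∩ Z : Set Y) := hcl.isClosedEmbedding_subtypeVal.quasiSober
    obtain ⟨z, hz⟩ := QuasiSober.sober (S := irreducibleComponent (⟨w, hwx, hwZ⟩ : (f.base ⁻¹' {x} ∩ Z : Set Y)))
      isIrreducible_irreducibleComponent isClosed_irreducibleComponent
    refine ⟨z.1, z.2.2, hg.specializes z.2.1, ?_⟩
    have hmax : ∀ z', η ⤳ z' → z' ⤳ z.1 → f z' = f z.1 → z' = z.1 := by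
      intro z' h1 h2 h3
      let z'' : (f.base ⁻¹' {x} ∩ Z : Set Y) := ⟨z', h3.trans z.2.1, h1.mem_closed hZcl hη.mem⟩
      have hs : z'' ⤳ z := (subtype_specializes_iff z'' z).2 h2
      have hsub : irreducibleComponent (⟨w, hwx, hwZ⟩ : (f.base ⁻¹' {x} ∩ Z : Set Y)) ⊆ closure {z''} := by
        rw [← hz.def]; exact specializes_iff_closure_subset.1 hs
      have := hz.eq (isGenericPoint_def.2 (eq_irreducibleComponent isIrreducible_singleton.closure.isPreirreducible hsub) : IsGenericPoint z'' _)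
      exact congrArg Subtype.val this.symm
    have hle := ptDim_add_le_of_minimal p f (hη.specializes z.2.2) hmax
    have h0 : ptDim p (f z.1) = 0 := by rw [show f z.1 = x from z.2.1]; exact (ptDim_eq_zero_iff p x).2 hx
    omega
  obtain ⟨V, hVη, hV⟩ := exists_open_ptDim_add_le p f η
  obtain ⟨y, ⟨hyU, hyV⟩, hy⟩ := exists_isClosed_singleton_mem (f ≫ p) (S := U ∩ f.base ⁻¹' V) ⟨η, hηU, hVη⟩
    (hU.inter (V.isOpen.preimage f.continuous)).isLocallyClosed
  have hx := isClosed_singleton_image p f hy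
  obtain ⟨g, hg, hgd⟩ := hgen (f y) hx
  have hgZ : g ∈ Z := hUZ ((hg.specializes (show y ∈ f.base ⁻¹' {f y} from rfl)).mem_open hU hyU)
  have hfg : f g = f y := hg.mem
  have h1 := hV g (hη.specializes hgZ) (by rw [hfg]; exact hyV)
  rw [hfg, (ptDim_eq_zero_iff p (f y)).2 hx, hgd] at h1
  obtain ⟨z, hzZ, hgz, hz⟩ := lower (f y) hx g hg ⟨g, hg.mem, hgZ⟩
  have hzd : ptDim (f ≫ p) z ≤ d := by
    rw [← hgd]
    by_cases e : g = z
    · rw [e]
    · exact (ptDim_lt_of_specializes (f ≫ p) hgz e).le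
  have heq : ptDim (f ≫ p) η = d + ptDim p (f η) := by omega
  refine ⟨fun x hx' hne => ?_, ?_⟩
  · obtain ⟨g', hg', hgd'⟩ := hgen x hx'
    obtain ⟨z', hz'Z, hgz', hz'⟩ := lower x hx' g' hg' hne
    have : g' = z' := by
      by_contra e
      have := ptDim_lt_of_specializes (f ≫ p) hgz' e
      omega
    exact fun w hw => (hg'.specializes hw).mem_closed hZcl (this ▸ hz'Z)
  · rw [topologicalKrullDim_eq_ptDim_of_isGenericPoint (f ≫ p) hη,
      topologicalKrullDim_eq_ptDim_of_isGenericPoint p himg, heq]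
    norm_cast

/-- Some component dominates, if all closed fibres are nonempty. -/
theorem exists_dominant_component (p : X ⟶ Spec (.of k)) (f : Y ⟶ X) [LocallyOfFiniteType p]
    [LocallyOfFiniteType (f ≫ p)] [QuasiCompact (f ≫ p)] [IrreducibleSpace X]
    (hne : ∀ x : X, IsClosed ({x} : Set X) → (f.base ⁻¹' {x}).Nonempty) :
    ∃ Z ∈ irreducibleComponents Y, Dense (f.base '' Z) := by
  have : IsLocallyNoetherian Y := LocallyOfFiniteType.isLocallyNoetherian (f ≫ p)
  have : CompactSpace Y := QuasiCompact.compactSpace_of_compactSpace (f ≫ p)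
  have : IsNoetherian Y := {}
  have : JacobsonSpace X := LocallyOfFiniteType.jacobsonSpace p
  have hfin := TopologicalSpace.NoetherianSpace.finite_irreducibleComponents (α := Y)
  have hcov : ∀ x ∈ closedPoints X, x ∈ ⋃ Z ∈ irreducibleComponents Y, closure (f.base '' Z) := fun x hx => by
    obtain ⟨y, hy⟩ := hne x hx
    exact Set.mem_biUnion (irreducibleComponent_mem_irreducibleComponents y) (subset_closure ⟨y, mem_irreducibleComponent, hy⟩)
  have hclosed : IsClosed (⋃ Z ∈ irreducibleComponents Y, closure (f.base '' Z)) :=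
    hfin.isClosed_biUnion fun _ _ => isClosed_closure
  have huniv : (Set.univ : Set X) ⊆ ⋃ Z ∈ irreducibleComponents Y, closure (f.base '' Z) := by
    rw [← closure_closedPoints (X := X)]
    exact closure_minimal hcov hclosed
  obtain ⟨Z, hZ, hmem⟩ := Set.mem_iUnion₂.1 (huniv (Set.mem_univ (genericPoint X)))
  refine ⟨Z, hZ, dense_iff_closure_eq.2 (Set.eq_univ_of_univ_subset ?_)⟩
  rw [← (genericPoint_spec X).def]
  exact closure_minimal (Set.singleton_subset_iff.2 hmem) isClosed_closure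

end Groth.Agent.DimLib
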