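import Mathlib.RingTheory.NoetherNormalization
import Mathlib.RingTheory.Ideal.KrullsHeightTheorem
import Mathlib.RingTheory.Ideal.GoingUp
import Mathlib.RingTheory.IntegralClosure.GoingDown
import Mathlib.RingTheory.KrullDimension.Polynomial
import Mathlib.RingTheory.KrullDimension.NonZeroDivisors
import Mathlib.RingTheory.AlgebraicIndependent.TranscendenceBasis
import Mathlib.RingTheory.Jacobson.Ring
import Mathlib.RingTheory.Polynomial.UniqueFactorization
import Mathlib.RingTheory.FiniteType
import Mathlib.RingTheory.KrullDimension.Field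
import Mathlib.RingTheory.Polynomial.RationalRoot

/-! Dimension theory of finitely generated algebras over a field. -/

universe u v

namespace Groth.Agent.DimLib

open Ideal

variable {R S : Type*} [CommRing R] [CommRing S] [Algebra R S]

/-- Integral algebras: `Spec S → Spec R` is strictly monotone (incomparability). -/
theorem strictMono_comap_of_isIntegral [Algebra.IsIntegral R S] :
    StrictMono (PrimeSpectrum.comap (algebraMap R S)) := by
  intro p q hpq
  obtain ⟨x, hx, hxn⟩ := SetLike.exists_of_lt (show p.asIdeal < q.asIdeal from hpq)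
  exact Ideal.comap_lt_comap_of_integral_mem_sdiff hpq.le ⟨hx, hxn⟩ (Algebra.IsIntegral.isIntegral x)

/-- Integral injective extensions preserve the Krull dimension. -/
theorem ringKrullDim_eq_of_isIntegral [Algebra.IsIntegral R S]
    (h : Function.Injective (algebraMap R S)) : ringKrullDim R = ringKrullDim S := by
  refine le_antisymm ?_ (Order.krullDim_le_of_strictMono _ strictMono_comap_of_isIntegral)
  refine iSup_le fun l => ?_
  have key : ∀ i : Fin (l.length + 1), ∃ l' : LTSeries (PrimeSpectrum S), l'.length = i.val ∧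
      l'.last.asIdeal.comap (algebraMap R S) = (l i).asIdeal := by
    intro i
    induction i using Fin.induction with
    | zero =>
      obtain ⟨Q, -, hQ, hc⟩ := Ideal.exists_ideal_over_prime_of_isIntegral (l 0).asIdeal (⊥ : Ideal S)
        (by rw [Ideal.comap_bot_of_injective _ h]; exact bot_le)
      exact ⟨RelSeries.singleton _ ⟨Q, hQ⟩, rfl, hc⟩
    | succ i ih =>
      obtain ⟨l', hlen, hl'⟩ := ih
      obtain ⟨Q, hle, hQ, hc⟩ := Ideal.exists_ideal_over_prime_of_isIntegral (l i.succ).asIdeal l'.last.asIdeal
        (hl'.le.trans (show (l i.castSucc).asIdeal ≤ _ from (l.step i).le))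
      have hlt : l'.last < ⟨Q, hQ⟩ := by
        refine lt_of_le_of_ne hle fun e => (l.step i).ne (PrimeSpectrum.ext ?_)
        rw [← hl', e]; exact hc
      exact ⟨l'.snoc _ hlt, by simp [hlen], by simpa using hc⟩
  obtain ⟨l', hlen, -⟩ := key (Fin.last _)
  exact le_iSup_of_le l' (by simp [hlen])

/-- Integral extensions with going down preserve heights of primes. -/
theorem height_comap_eq [IsNoetherianRing R] [IsNoetherianRing S] [Algebra.IsIntegral R S] [Algebra.HasGoingDown R S]
    (P : Ideal S) [P.IsPrime] : (P.comap (algebraMap R S)).height = P.height := by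
  refine le_antisymm ?_ ?_
  · have : P.LiesOver (P.comap (algebraMap R S)) := ⟨rfl⟩
    rw [Ideal.height_eq_height_add_of_liesOver_of_hasGoingDown (P.comap (algebraMap R S)) P]
    exact le_self_add
  · have h := Order.height_le_height_apply_of_strictMono _ (strictMono_comap_of_isIntegral (R := R))
      (⟨P, inferInstance⟩ : PrimeSpectrum S)
    rwa [← PrimeSpectrum.height_eq_orderHeight, ← PrimeSpectrum.height_eq_orderHeight] at h

/-- If `p` covers `q`, then `p/q` has height one. -/
theorem height_map_quotient_of_covBy (p q : PrimeSpectrum R) (h : q ⋖ p) :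
    (p.asIdeal.map (Ideal.Quotient.mk q.asIdeal)).height = 1 := by
  have hle : q.asIdeal ≤ p.asIdeal := h.le
  have hc : (p.asIdeal.map (Ideal.Quotient.mk q.asIdeal)).comap (Ideal.Quotient.mk q.asIdeal) = p.asIdeal := by
    rw [Ideal.comap_map_of_surjective _ Ideal.Quotient.mk_surjective, ← RingHom.ker_eq_comap_bot, Ideal.mk_ker, sup_eq_left.2 hle]
  have hp' : (p.asIdeal.map (Ideal.Quotient.mk q.asIdeal)).IsPrime :=
    Ideal.map_isPrime_of_surjective Ideal.Quotient.mk_surjective (by rwa [Ideal.mk_ker])
  refine le_antisymm ?_ ?_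
  · rw [← Nat.cast_one, Ideal.height_le_iff]
    intro J hJ hlt
    have hJ0 : J = ⊥ := by
      by_contra hne
      refine h.2 (c := ⟨J.comap (Ideal.Quotient.mk _), inferInstance⟩) ?_ ?_
      · show q.asIdeal < _
        refine lt_of_le_of_ne (le_trans (Ideal.mk_ker).ge (Ideal.ker_le_comap _)) fun e => hne ?_
        rw [← Ideal.map_comap_of_surjective (Ideal.Quotient.mk q.asIdeal) Ideal.Quotient.mk_surjective J]
        change q.asIdeal = Ideal.comap (Ideal.Quotient.mk q.asIdeal) J at e
        rw [← e, Ideal.map_quotient_self]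
      · show _ < p.asIdeal
        refine lt_of_le_of_ne (hc ▸ Ideal.comap_mono hlt.le) fun e => hlt.ne ?_
        exact Ideal.comap_injective_of_surjective _ Ideal.Quotient.mk_surjective (e.trans hc.symm)
    simp [hJ0]
  · refine Order.one_le_iff_pos.2 (pos_iff_ne_zero.2 ?_)
    rw [ne_eq, Ideal.height_eq_zero_iff_eq_bot, Ideal.map_eq_bot_iff_le_ker, Ideal.mk_ker]
    exact fun e => h.ne (le_antisymm h.le e)

variable {k : Type u} [Field k]

/-- Every maximal ideal of `k[X_1,…,X_n]` has height `n`. -/
theorem height_eq_of_isMaximal_mvPolynomial : ∀ (n : ℕ) (m : Ideal (MvPolynomial (Fin n) k)) [m.IsMaximal],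
    m.height = n
  | 0, m, _ => by
    let e := MvPolynomial.isEmptyRingEquiv k (Fin 0)
    rw [← e.height_map m]
    have : (m.map e).IsMaximal := Ideal.map_isMaximal_of_equiv e
    have h0 : m.map e = ⊥ := (eq_bot_or_top (m.map e)).resolve_right this.ne_top
    simp [h0]
  | n+1, m, _ => by
    let e := (MvPolynomial.finSuccEquiv k n).toRingEquiv
    rw [← e.height_map m]
    have : (m.map e).IsMaximal := Ideal.map_isMaximal_of_equiv e
    set P := m.map e
    let p := P.comap (algebraMap (MvPolynomial (Fin n) k) _)
    have hp : p.IsMaximal := Polynomial.isMaximal_comap_C_of_isJacobsonRing P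
    have : P.LiesOver p := ⟨rfl⟩
    rw [Polynomial.height_eq_height_add_one p P, height_eq_of_isMaximal_mvPolynomial n p]
    simp

variable {A : Type v} [CommRing A] [Algebra k A] [Algebra.FiniteType k A]

/-- The Krull dimension of a finitely generated domain over a field is its transcendence degree. -/
theorem exists_normalization [IsDomain A] :
    ∃ (s : ℕ) (g : MvPolynomial (Fin s) k →ₐ[k] A), Function.Injective g ∧ g.Finite ∧
      ringKrullDim A = (s : WithBot ℕ∞) ∧ Algebra.trdeg k A = (s : Cardinal) := by
  obtain ⟨s, g, hinj, hfin⟩ := exists_finite_inj_algHom_of_fg k A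
  refine ⟨s, g, hinj, hfin, ?_, ?_⟩
  · have hfin' : g.toRingHom.Finite := hfin
    algebraize [g.toRingHom]
    rw [← ringKrullDim_eq_of_isIntegral (R := MvPolynomial (Fin s) k) (S := A) hinj]
    simp [ringKrullDim_eq_zero_of_field]
  · have hfin' : g.toRingHom.Finite := hfin
    algebraize [g.toRingHom]
    have : IsScalarTower k (MvPolynomial (Fin s) k) A := IsScalarTower.of_algebraMap_eq fun x => (g.commutes x).symm
    have : FaithfulSMul (MvPolynomial (Fin s) k) A := (faithfulSMul_iff_algebraMap_injective _ _).2 hinj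
    have h0 : Algebra.trdeg (MvPolynomial (Fin s) k) A = 0 := trdeg_eq_zero
    have := lift_trdeg_add_eq k (MvPolynomial (Fin s) k) A
    simp [MvPolynomial.trdeg_of_isDomain, h0] at this
    exact this.symm

theorem ringKrullDim_eq_trdeg [IsDomain A] :
    ringKrullDim A = ((Algebra.trdeg k A).toNat : WithBot ℕ∞) := by
  obtain ⟨s, g, -, -, h1, h2⟩ := exists_normalization (k := k) (A := A)
  simp [h1, h2]

include k in
theorem exists_nat_ringKrullDim [IsDomain A] : ∃ d : ℕ, ringKrullDim A = (d : WithBot ℕ∞) :=
  ⟨_, ringKrullDim_eq_trdeg (k := k)⟩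

include k in
/-- In a f.g. domain over a field, every maximal ideal has height equal to the dimension. -/
theorem height_eq_of_isMaximal [IsDomain A] (m : Ideal A) [m.IsMaximal] :
    (m.height : WithBot ℕ∞) = ringKrullDim A := by
  have : IsNoetherianRing A := Algebra.FiniteType.isNoetherianRing k A
  refine le_antisymm (Ideal.height_le_ringKrullDim_of_ne_top (Ideal.IsMaximal.ne_top ‹_›)) ?_
  obtain ⟨s, g, hinj, hfin, h1, -⟩ := exists_normalization (k := k) (A := A)
  have hfin' : g.toRingHom.Finite := hfin
  algebraize [g.toRingHom]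
  have : FaithfulSMul (MvPolynomial (Fin s) k) A := (faithfulSMul_iff_algebraMap_injective _ _).2 hinj
  let M := m.comap (algebraMap (MvPolynomial (Fin s) k) A)
  have : M.IsMaximal := Ideal.isMaximal_comap_of_isIntegral_of_isMaximal m
  rw [h1, ← height_comap_eq (R := MvPolynomial (Fin s) k) m, height_eq_of_isMaximal_mvPolynomial s M]
  rfl

include k in
/-- A height-one prime cuts the dimension down by one. -/
theorem ringKrullDim_quotient_add_one [IsDomain A] (p : Ideal A) [p.IsPrime] (hp : p.height = 1) :
    ringKrullDim (A ⧸ p) + 1 = ringKrullDim A := by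
  have : IsNoetherianRing A := Algebra.FiniteType.isNoetherianRing k A
  obtain ⟨s, g, hinj, hfin, h1, -⟩ := exists_normalization (k := k) (A := A)
  have hfin' : g.toRingHom.Finite := hfin
  algebraize [g.toRingHom]
  have : FaithfulSMul (MvPolynomial (Fin s) k) A := (faithfulSMul_iff_algebraMap_injective _ _).2 hinj
  let P := MvPolynomial (Fin s) k
  let p₀ : Ideal P := p.comap (algebraMap P A)
  have : p.LiesOver p₀ := ⟨rfl⟩
  have hp₀ : p₀.height = 1 := (height_comap_eq (R := P) p).trans hp
  obtain ⟨f, hf⟩ : ∃ f, p₀ = Ideal.span {f} := by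
    have h0 : p₀ ≠ ⊥ := fun e => by simp [e] at hp₀
    obtain ⟨f, hfp, hfprime⟩ := Ideal.IsPrime.exists_mem_prime_of_ne_bot inferInstance h0
    refine ⟨f, ?_⟩
    have : (Ideal.span {f}).IsPrime := (Ideal.span_singleton_prime hfprime.ne_zero).2 hfprime
    have hfh : (Ideal.span {f}).FiniteHeight := Ideal.finiteHeight_of_le ((Ideal.span_singleton_le_iff_mem _).2 hfp) (Ideal.IsPrime.ne_top inferInstance)
    refine (Ideal.eq_of_le_of_height_le (I := Ideal.span {f}) (J := p₀) ((Ideal.span_singleton_le_iff_mem _).2 hfp) ?_).symm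
    rw [hp₀]
    exact Order.one_le_iff_pos.2 (pos_iff_ne_zero.2 (by simp [Ideal.height_eq_zero_iff_eq_bot, hfprime.ne_zero]))
  have hint : ringKrullDim (P ⧸ p₀) = ringKrullDim (A ⧸ p) :=
    ringKrullDim_eq_of_isIntegral Ideal.algebraMap_quotient_injective
  rw [← hint, h1]
  refine le_antisymm ?_ ?_
  · have hfne : f ≠ 0 := by rintro rfl; simp [hf] at hp₀
    have h2 := ringKrullDim_quotient_succ_le_of_nonZeroDivisor (R := P) (r := f) (mem_nonZeroDivisors_of_ne_zero hfne)
    rw [← hf] at h2
    refine h2.trans_eq ?_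
    simp [P, ringKrullDim_eq_zero_of_field]
  · obtain ⟨M, hM, hle⟩ := p₀.exists_le_maximal (Ideal.IsPrime.ne_top inferInstance)
    have h3 := Ideal.height_le_height_add_spanFinrank_of_le (p := M) hle
    rw [height_eq_of_isMaximal_mvPolynomial s M] at h3
    have h4 : (M.map (Ideal.Quotient.mk p₀)).height ≤ ringKrullDim (P ⧸ p₀) :=
      Ideal.height_le_ringKrullDim_of_ne_top (by
        intro e
        apply hM.ne_top
        have := Ideal.comap_map_of_surjective (Ideal.Quotient.mk p₀) Ideal.Quotient.mk_surjective M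
        rw [e, ← RingHom.ker_eq_comap_bot, Ideal.mk_ker, Ideal.comap_top, sup_eq_left.2 hle] at this
        exact this.symm)
    have h5 : p₀.spanFinrank ≤ 1 := by
      rw [hf]; exact (Submodule.spanFinrank_span_le_ncard_of_finite (Set.finite_singleton f)).trans (by simp)
    refine le_trans ?_ (add_le_add h4 le_rfl)
    exact_mod_cast h3.trans (add_le_add le_rfl (by exact_mod_cast h5))

include k in
/-- The dimension formula: `height p + dim A/p = dim A`. -/
theorem height_add_ringKrullDim_quotient [IsDomain A] (p : Ideal A) [p.IsPrime] :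
    (p.height : WithBot ℕ∞) + ringKrullDim (A ⧸ p) = ringKrullDim A := by
  have : IsNoetherianRing A := Algebra.FiniteType.isNoetherianRing k A
  obtain ⟨n, hn⟩ := ENat.ne_top_iff_exists.1 (Ideal.height_ne_top_of_isPrime (I := p))
  induction n generalizing p with
  | zero =>
    have h0 : p = ⊥ := Ideal.height_eq_zero_iff_eq_bot.1 (by simpa using hn.symm)
    subst h0
    rw [Ideal.height_bot, WithBot.coe_zero, zero_add]
    exact ringKrullDim_eq_of_ringEquiv (RingEquiv.quotientBot A)
  | succ n ih =>
    obtain ⟨l, hl, hlen⟩ := p.exists_ltSeries_length_eq_height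
    have hlen' : l.length = n + 1 := by rw [← hn] at hlen; exact_mod_cast hlen
    let i : Fin l.length := ⟨n, by omega⟩
    let q := l i.castSucc
    let P : PrimeSpectrum A := ⟨p, inferInstance⟩
    have hqP : q < P := by
      have : l i.succ = P := by
        have e : i.succ = Fin.last _ := Fin.ext (by simp [i, hlen'])
        rw [e]; exact hl
      exact this ▸ l.step i
    have hq : q.asIdeal.height = n := by
      refine le_antisymm ?_ ?_
      · have h1 := Ideal.height_add_one_le_of_lt_of_isPrime (show q.asIdeal < p from hqP)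
        rw [← hn] at h1
        push_cast at h1
        exact (ENat.add_le_add_iff_right (by simp)).1 h1
      · rw [q.height_eq_orderHeight]
        exact Order.index_le_height l i.castSucc
    have hcov : q ⋖ P := ⟨hqP, fun c hc hcP => by
      have h1 := Ideal.height_add_one_le_of_lt_of_isPrime (show q.asIdeal < c.asIdeal from hc)
      have h2 := Ideal.height_add_one_le_of_lt_of_isPrime (show c.asIdeal < p from hcP)
      have h3 := (add_le_add_left h1 1).trans h2
      rw [hq, ← hn] at h3
      norm_cast at h3
      omega⟩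
    have : (p.map (Ideal.Quotient.mk q.asIdeal)).IsPrime :=
      Ideal.map_isPrime_of_surjective Ideal.Quotient.mk_surjective (by rw [Ideal.mk_ker]; exact hqP.le)
    have h1 := ringKrullDim_quotient_add_one (k := k) (A := A ⧸ q.asIdeal)
      (p.map (Ideal.Quotient.mk q.asIdeal)) (height_map_quotient_of_covBy P q hcov)
    rw [ringKrullDim_eq_of_ringEquiv (DoubleQuot.quotQuotEquivQuotOfLE (show q.asIdeal ≤ p from hqP.le))] at h1
    rw [← ih q.asIdeal hq.symm, ← h1, hq, ← hn]
    push_cast
    ac_rfl

include k in
theorem height_eq_height_add_one_of_covBy [IsDomain A] {q p : PrimeSpectrum A} (h : q ⋖ p) :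
    p.asIdeal.height = q.asIdeal.height + 1 := by
  have : IsNoetherianRing A := Algebra.FiniteType.isNoetherianRing k A
  have : (p.asIdeal.map (Ideal.Quotient.mk q.asIdeal)).IsPrime :=
    Ideal.map_isPrime_of_surjective Ideal.Quotient.mk_surjective (by rw [Ideal.mk_ker]; exact h.le)
  have h1 := ringKrullDim_quotient_add_one (k := k) (A := A ⧸ q.asIdeal)
    (p.asIdeal.map (Ideal.Quotient.mk q.asIdeal)) (height_map_quotient_of_covBy p q h)
  rw [ringKrullDim_eq_of_ringEquiv (DoubleQuot.quotQuotEquivQuotOfLE (show q.asIdeal ≤ p.asIdeal from h.le))] at h1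
  have e1 := height_add_ringKrullDim_quotient (k := k) q.asIdeal
  have e2 := height_add_ringKrullDim_quotient (k := k) p.asIdeal
  obtain ⟨d, hd⟩ := exists_nat_ringKrullDim (k := k) (A := A ⧸ p.asIdeal)
  obtain ⟨a, ha⟩ := ENat.ne_top_iff_exists.1 (Ideal.height_ne_top_of_isPrime (I := p.asIdeal))
  obtain ⟨b, hb⟩ := ENat.ne_top_iff_exists.1 (Ideal.height_ne_top_of_isPrime (I := q.asIdeal))
  rw [← ha] at e2 ⊢; rw [← hb] at e1 ⊢
  rw [← e2, ← h1, hd] at e1
  norm_cast at e1 ⊢
  omega

include k in
/-- Saturated chains from `0` to a maximal ideal all have length `dim A`. -/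
theorem length_eq_ringKrullDim_of_saturated [IsDomain A] (c : LTSeries (PrimeSpectrum A))
    (h0 : c.head.asIdeal = ⊥) (hmax : c.last.asIdeal.IsMaximal)
    (hsat : ∀ i : Fin c.length, c i.castSucc ⋖ c i.succ) :
    (c.length : WithBot ℕ∞) = ringKrullDim A := by
  have key : ∀ i : Fin (c.length + 1), (c i).asIdeal.height = (i.val : ℕ∞) := by
    intro i
    induction i using Fin.induction with
    | zero => show c.head.asIdeal.height = _; simp [h0]
    | succ i ih => rw [height_eq_height_add_one_of_covBy (k := k) (hsat i), ih]; simp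
  rw [← height_eq_of_isMaximal (k := k) c.last.asIdeal]
  show _ = ((c (Fin.last _)).asIdeal.height : WithBot ℕ∞)
  rw [key]; simp

end Groth.Agent.DimLib
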