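import Groth.Agent.DimLib.Maximal
import Mathlib.AlgebraicGeometry.Morphisms.QuasiFinite
import Mathlib.AlgebraicGeometry.Artinian

/-! Zero-dimensional schemes of finite type over a field. -/

universe u

open CategoryTheory AlgebraicGeometry TopologicalSpace Opposite

namespace Groth.Agent.DimLib

variable {k : Type u} [Field k] {X : Scheme.{u}}

theorem isFinite_of_finite (f : X ⟶ Spec (.of k)) [LocallyOfFiniteType f] [QuasiCompact f] [Finite X] :
    IsFinite f :=
  have : IsLocallyArtinian (Spec (CommRingCat.of k)) := Scheme.isLocallyArtinianScheme_Spec.2 inferInstance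
  have : LocallyQuasiFinite f := locallyQuasiFinite_iff_finite_preimage_singleton.2 fun _ => Set.toFinite _
  IsFinite.of_locallyQuasiFinite f

theorem discreteTopology_of_finite (f : X ⟶ Spec (.of k)) [LocallyOfFiniteType f] [QuasiCompact f] [Finite X] :
    DiscreteTopology X :=
  have : IsLocallyArtinian (Spec (CommRingCat.of k)) := Scheme.isLocallyArtinianScheme_Spec.2 inferInstance
  have : LocallyQuasiFinite f := locallyQuasiFinite_iff_finite_preimage_singleton.2 fun _ => Set.toFinite _
  have : IsLocallyArtinian X := .of_locallyQuasiFinite f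
  inferInstance

theorem discreteTopology_of_dim_le_zero (f : X ⟶ Spec (.of k)) [LocallyOfFiniteType f]
    (h : topologicalKrullDim X ≤ 0) : DiscreteTopology X :=
  have : IsLocallyNoetherian X := LocallyOfFiniteType.isLocallyNoetherian f
  have := IsLocallyArtinian.of_topologicalKrullDim_le_zero h
  inferInstance

theorem finite_of_dim_le_zero (f : X ⟶ Spec (.of k)) [LocallyOfFiniteType f] [QuasiCompact f]
    (h : topologicalKrullDim X ≤ 0) : Finite X :=
  have := discreteTopology_of_dim_le_zero f h
  have : CompactSpace X := QuasiCompact.compactSpace_of_compactSpace f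
  finite_of_compact_of_discrete

theorem isFinite_of_dim_le_zero (f : X ⟶ Spec (.of k)) [LocallyOfFiniteType f] [QuasiCompact f]
    (h : topologicalKrullDim X ≤ 0) : IsFinite f :=
  have := finite_of_dim_le_zero f h
  isFinite_of_finite f

theorem bijective_germ [DiscreteTopology X] :
    Function.Bijective (fun (s : Γ(X, ⊤)) => fun x : X => X.presheaf.germ ⊤ x trivial s) := by
  refine ⟨fun s t h => TopCat.Presheaf.section_ext X.sheaf _ _ _ fun x _ => congrFun h x, fun σ => ?_⟩
  let U : X → X.Opens := fun x => ⟨{x}, isOpen_discrete _⟩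
  have hr : ∀ x, ∃ t : Γ(X, U x), X.presheaf.germ (U x) x rfl t = σ x := fun x => by
    obtain ⟨W, hxW, t, ht⟩ := X.presheaf.germ_exist (σ x)
    have hle : U x ≤ W := fun y (hy : y = x) => hy ▸ hxW
    exact ⟨X.presheaf.map (homOfLE hle).op t, (TopCat.Presheaf.germ_res_apply X.presheaf (homOfLE hle) x rfl t).trans ht⟩
  choose t ht using hr
  obtain ⟨s, hs, -⟩ := X.sheaf.existsUnique_gluing' U ⊤ (fun x => homOfLE le_top)
    (fun x _ => Opens.mem_iSup.2 ⟨x, rfl⟩) t (fun x y => by
      by_cases hxy : x = y
      · subst hxy; rfl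
      · have : U x ⊓ U y = ⊥ := by
          ext z
          exact ⟨fun ⟨(h1 : z = x), (h2 : z = y)⟩ => (hxy (h1.symm.trans h2)).elim, fun h => h.elim⟩
        have hsub : Subsingleton Γ(X, U x ⊓ U y) := by rw [this]; infer_instance
        exact @Subsingleton.elim _ hsub _ _)
  refine ⟨s, funext fun x => ?_⟩
  show X.presheaf.germ ⊤ x trivial s = σ x
  rw [← ht x, ← hs x]
  exact (TopCat.Presheaf.germ_res_apply X.presheaf (homOfLE le_top) x rfl s).symm

end Groth.Agent.DimLib
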