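import Groth.Agent.DimLib.Components
import Mathlib.AlgebraicGeometry.Morphisms.UniversallyOpen

/-! Maximal points (= generic points of components), components of fibres, flat lifting. -/

universe u

open CategoryTheory AlgebraicGeometry Topology

namespace Groth.Agent.DimLib

variable {k : Type u} [Field k] {X Y : Scheme.{u}}

theorem mem_components_iff {α : Type*} [TopologicalSpace α] [QuasiSober α] (z : α) :
    closure ({z} : Set α) ∈ irreducibleComponents α ↔ ∀ y, y ⤳ z → z ⤳ y := by
  constructor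
  · intro h y hy
    exact specializes_iff_mem_closure.2
      (h.2 isIrreducible_singleton.closure hy.closure_subset (subset_closure rfl))
  · intro h
    refine ⟨isIrreducible_singleton.closure, fun t ht hle => ?_⟩
    obtain ⟨y, hy⟩ := QuasiSober.sober ht.closure isClosed_closure
    have := (h y (hy.specializes (subset_closure (hle (subset_closure rfl))))).closure_subset
    rw [hy.def] at this
    exact subset_closure.trans this

theorem exists_genericPoint_of_mem_components {Z : Set X} (hZ : Z ∈ irreducibleComponents X) :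
    ∃ η : X, IsGenericPoint η Z ∧ ∀ z, z ⤳ η → η = z := by
  have hgp := hZ.1.isGenericPoint_genericPoint (isClosed_of_mem_irreducibleComponents Z hZ)
  exact ⟨hZ.1.genericPoint, hgp, fun z hz =>
    (((mem_components_iff hZ.1.genericPoint).1 (by rwa [hgp.def]) z hz).antisymm hz).eq⟩

theorem closure_mem_components {η : X} (h : ∀ z, z ⤳ η → η = z) :
    closure ({η} : Set X) ∈ irreducibleComponents X :=
  (mem_components_iff η).2 fun y hy => h y hy ▸ specializes_rfl

theorem forall_components_iff (p : X ⟶ Spec (.of k)) [LocallyOfFiniteType p] (P : WithBot ℕ∞ → Prop) :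
    (∀ Z ∈ irreducibleComponents X, P (topologicalKrullDim Z)) ↔
      ∀ η : X, (∀ z, z ⤳ η → η = z) → P (ptDim p η) := by
  constructor
  · intro h η hη
    rw [← topologicalKrullDim_eq_ptDim_of_isGenericPoint p isGenericPoint_closure]
    exact h _ (closure_mem_components hη)
  · intro h Z hZ
    obtain ⟨η, hη, hmax⟩ := exists_genericPoint_of_mem_components hZ
    rw [topologicalKrullDim_eq_ptDim_of_isGenericPoint p hη]
    exact h η hmax

theorem forall_fiber_components_iff (p : X ⟶ Spec (.of k)) (f : Y ⟶ X) [LocallyOfFiniteType p]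
    [LocallyOfFiniteType (f ≫ p)] (x : X) (P : WithBot ℕ∞ → Prop) :
    (∀ Z ∈ irreducibleComponents ↥(f.fiber x), P (topologicalKrullDim Z)) ↔
      ∀ (z : Y), f z = x → (∀ w, w ⤳ z → f w = x → z = w) →
        ∀ m : ℕ, ptDim (f ≫ p) z = ptDim p x + m → P m := by
  have : LocallyOfFiniteType f := locallyOfFiniteType_of_comp f p
  have : LocallyOfFiniteType (f.fiberToSpecResidueField x) :=
    (inferInstanceAs (LocallyOfFiniteType (Limits.pullback.snd f (X.fromSpecResidueField x))))
  rw [forall_components_iff (k := X.residueField x) (f.fiberToSpecResidueField x) P]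
  constructor
  · intro h z hz hmax m hm
    obtain ⟨a, rfl⟩ : ∃ a, f.fiberι x a = z := by
      have : z ∈ Set.range (f.fiberι x) := by rw [Scheme.Hom.range_fiberι]; exact hz
      exact this
    have := h a (fun b hb => (f.fiberι x).isEmbedding.injective
      (hmax _ (hb.map (f.fiberι x).continuous) (by
        have : f.fiberι x b ∈ f ⁻¹' {x} := by rw [← Scheme.Hom.range_fiberι]; exact ⟨b, rfl⟩
        exact this)))
    rw [ptDim_fiberι p f x a] at hm
    convert this using 3
    omega
  · intro h a hmax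
    refine h (f.fiberι x a) (by
        have : f.fiberι x a ∈ f ⁻¹' {x} := by rw [← Scheme.Hom.range_fiberι]; exact ⟨a, rfl⟩
        exact this) (fun w hw hwx => ?_) _ (ptDim_fiberι p f x a)
    obtain ⟨b, rfl⟩ : ∃ b, f.fiberι x b = w := by
      have : w ∈ Set.range (f.fiberι x) := by rw [Scheme.Hom.range_fiberι]; exact hwx
      exact this
    rw [hmax b ((f.fiberι x).isEmbedding.isInducing.specializes_iff.1 hw)]

theorem ptDim_le_of_specializes (p : X ⟶ Spec (.of k)) [LocallyOfFiniteType p] {x y : X} (h : x ⤳ y) :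
    ptDim p y ≤ ptDim p x := by
  by_cases e : x = y
  · rw [e]
  · exact (ptDim_lt_of_specializes p h e).le

theorem eq_of_specializes_of_ptDim_le (p : X ⟶ Spec (.of k)) [LocallyOfFiniteType p] {x y : X}
    (h : x ⤳ y) (h' : ptDim p x ≤ ptDim p y) : x = y := by
  by_contra e
  have := ptDim_lt_of_specializes p h e
  omega

/-- Catenary: a proper specialization factors through one of codimension one. -/
theorem exists_specializes_ptDim_succ (p : X ⟶ Spec (.of k)) [LocallyOfFiniteType p] {ξ y : X}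
    (h : ξ ⤳ y) (hne : ξ ≠ y) : ∃ y', ξ ⤳ y' ∧ y' ⤳ y ∧ ptDim p y' = ptDim p y + 1 := by
  classical
  have hex : ∃ n, ∃ z, ξ ⤳ z ∧ z ⤳ y ∧ z ≠ y ∧ ptDim p z = n := ⟨_, ξ, specializes_rfl, h, hne, rfl⟩
  obtain ⟨z, h1, h2, h3, h4⟩ := Nat.find_spec hex
  refine ⟨z, h1, h2, ?_⟩
  have hmin : ∀ w, z ⤳ w → w ⤳ y → w = z ∨ w = y := fun w hzw hwy => by
    by_contra! hc
    have := Nat.find_min' hex ⟨w, h1.trans hzw, hwy, hc.2, rfl⟩
    have := ptDim_lt_of_specializes p hzw (Ne.symm hc.1)
    omega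
  obtain ⟨A, φ, j, Q, hj, hφ, e, rfl⟩ := exists_chart p y
  obtain ⟨P, rfl⟩ : ∃ P : Spec A, j P = z := h2.mem_open j.isOpenEmbedding.isOpen_range ⟨Q, rfl⟩
  obtain ⟨P', rfl⟩ : ∃ P' : PrimeSpectrum A, P' = P := ⟨P, rfl⟩
  obtain ⟨Q', rfl⟩ : ∃ Q' : PrimeSpectrum A, Q' = Q := ⟨Q, rfl⟩
  have hcov : P' ⋖ Q' := by
    refine ⟨lt_of_le_of_ne ((PrimeSpectrum.le_iff_specializes P' Q').2
      (j.isOpenEmbedding.isInducing.specializes_iff.1 h2)) (fun e' => h3 (congrArg _ e')),
      fun R hPR hRQ => ?_⟩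
    rcases hmin (j R) (((PrimeSpectrum.le_iff_specializes P' R).1 hPR.le).map j.continuous)
      (((PrimeSpectrum.le_iff_specializes R Q').1 hRQ.le).map j.continuous) with hR | hR
    · exact hPR.ne (j.isOpenEmbedding.injective hR).symm
    · exact hRQ.ne (j.isOpenEmbedding.injective hR)
  algebraize [φ]
  have hQi : Q'.asIdeal.IsPrime := Q'.isPrime
  have hPi : P'.asIdeal.IsPrime := P'.isPrime
  have hle : (P'.asIdeal : Ideal A) ≤ Q'.asIdeal := hcov.le
  have hq : (Q'.asIdeal.map (Ideal.Quotient.mk P'.asIdeal)).IsPrime :=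
    Ideal.map_isPrime_of_surjective Ideal.Quotient.mk_surjective (by rw [Ideal.mk_ker]; exact hle)
  have : IsNoetherianRing A := Algebra.FiniteType.isNoetherianRing k A
  have h5 := ringKrullDim_quotient_add_one (k := k) (A := A ⧸ P'.asIdeal) _
    (height_map_quotient_of_covBy (R := A) Q' P' hcov)
  rw [ringKrullDim_eq_of_ringEquiv (DoubleQuot.quotQuotEquivQuotOfLE hle),
    ptDim_chart p φ hφ j e Q', ptDim_chart p φ hφ j e P'] at h5
  exact_mod_cast h5.symm

/-- Going down for flat maps with the dimension count. -/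
theorem exists_lift_of_flat (p : X ⟶ Spec (.of k)) (f : Y ⟶ X) [LocallyOfFiniteType p]
    [LocallyOfFiniteType (f ≫ p)] [Flat f] {ξ : X} {z : Y} (h : ξ ⤳ f z) :
    ∃ z', z' ⤳ z ∧ f z' = ξ ∧ ptDim (f ≫ p) z + ptDim p ξ ≤ ptDim (f ≫ p) z' + ptDim p (f z) := by
  induction hn : ptDim p ξ - ptDim p (f z) generalizing z with
  | zero =>
    have := eq_of_specializes_of_ptDim_le p h (by omega)
    exact ⟨z, specializes_rfl, this.symm, by rw [this]⟩
  | succ n ih =>
    have hne : ξ ≠ f z := fun e => by rw [e] at hn; omega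
    obtain ⟨y', h1, h2, h3⟩ := exists_specializes_ptDim_succ p h hne
    obtain ⟨z1, hz1, rfl⟩ := Flat.generalizingMap (f := f) h2
    have hlt : z1 ≠ z := fun e => by rw [e] at h3; omega
    have := ptDim_lt_of_specializes (f ≫ p) hz1 hlt
    obtain ⟨z', hz', e, hd⟩ := ih h1 (by omega)
    exact ⟨z', hz'.trans hz1, e, by omega⟩

theorem isMax_apply_of_flat (f : Y ⟶ X) [Flat f] {η : Y} (h : ∀ z, z ⤳ η → η = z) :
    ∀ x, x ⤳ f η → f η = x := fun _ hx => by
  obtain ⟨z, hz, rfl⟩ := Flat.generalizingMap (f := f) hx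
  rw [h z hz]

/-- Equidimensional flat morphisms. -/
theorem fibre_equidim_iff_of_flat (p : X ⟶ Spec (.of k)) (f : Y ⟶ X) [LocallyOfFiniteType p]
    [LocallyOfFiniteType (f ≫ p)] [Flat f] (d n : ℕ)
    (hX : ∀ ξ : X, (∀ z, z ⤳ ξ → ξ = z) → ptDim p ξ = d) :
    (∀ η : Y, (∀ z, z ⤳ η → η = z) → ptDim (f ≫ p) η = d + n) ↔
      ∀ z : Y, (∀ w, w ⤳ z → f w = f z → z = w) → ptDim (f ≫ p) z = ptDim p (f z) + n := by
  constructor
  · intro h z hz
    obtain ⟨ξ, hξ, hξmax⟩ := exists_maximal_specializes (f z)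
    obtain ⟨z', hz', rfl, hd⟩ := exists_lift_of_flat p f hξ
    obtain ⟨η, hη, hηmax⟩ := exists_maximal_specializes z'
    have h2 := ptDim_le_of_specializes (f ≫ p) hη
    have h3 := h η hηmax
    have h4 := hX _ hξmax
    have h5 := ptDim_add_le_of_minimal p f (hη.trans hz') (fun w _ hw he => (hz w hw he).symm)
    have h6 := hX _ (isMax_apply_of_flat f hηmax)
    omega
  · intro h η hη
    rw [h η (fun w hw _ => hη w hw), hX _ (isMax_apply_of_flat f hη)]

end Groth.Agent.DimLib

namespace Groth.Agent.DimLib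

variable {k : Type u} [Field k] {X Y : Scheme.{u}}

/-- Component form of `fibre_equidim_iff_of_flat`. -/
theorem components_equidim_iff_of_flat (p : X ⟶ Spec (.of k)) (f : Y ⟶ X) [LocallyOfFiniteType p]
    [LocallyOfFiniteType (f ≫ p)] [Flat f] (d n : ℕ)
    (hX : ∀ Z ∈ irreducibleComponents X, topologicalKrullDim Z = (d : WithBot ℕ∞)) :
    (∀ Z ∈ irreducibleComponents Y, topologicalKrullDim Z = ((d + n : ℕ) : WithBot ℕ∞)) ↔
      ∀ x : X, ∀ Z ∈ irreducibleComponents ↥(f.fiber x), topologicalKrullDim Z = (n : WithBot ℕ∞) := by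
  rw [forall_components_iff p (fun e => e = (d : WithBot ℕ∞))] at hX
  rw [forall_components_iff (f ≫ p) (fun e => e = ((d + n : ℕ) : WithBot ℕ∞))]
  simp only [Nat.cast_inj] at hX ⊢
  rw [fibre_equidim_iff_of_flat p f d n hX]
  constructor
  · intro h x
    rw [forall_fiber_components_iff p f x (fun e => e = (n : WithBot ℕ∞))]
    rintro z rfl hmax m hm
    have := h z hmax
    exact_mod_cast (by omega : m = n)
  · intro h z hz
    have h1 := (forall_fiber_components_iff p f (f z) (fun e => e = (n : WithBot ℕ∞))).1 (h (f z)) z rfl hz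
    obtain ⟨m, hm⟩ := Nat.exists_eq_add_of_le (ptDim_apply_le p f z)
    rw [hm, Nat.cast_inj.1 (h1 m hm)]

theorem components_eq_univ [IrreducibleSpace X] {Z : Set X} (hZ : Z ∈ irreducibleComponents X) :
    Z = Set.univ := by
  rw [irreducibleComponents_eq_singleton] at hZ
  exact hZ

end Groth.Agent.DimLib
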