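import Groth.Agent.DimLib.ProjPrime

/-! Dimension theory of closed subsets of projective space. -/

universe u

open CategoryTheory AlgebraicGeometry MvPolynomial

namespace Groth.Agent.DimLib.PN

variable {n : ℕ} {k : Type u} [Field k]

local notation "S" => MvPolynomial (Fin (n + 1)) k
local notation "𝒜" => CohB1.polyGrading n k
local notation "πP" => CohB1.ProjSpace.toSpec n k

theorem bot_isHomogeneous : (⊥ : Ideal S).IsHomogeneous 𝒜 := Ideal.IsHomogeneous.bot 𝒜

theorem bot_ne_m0 : (⊥ : Ideal S) ≠ m0 n k := fun e => by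
  have := X_mem_m0 (n := n) (k := k) 0
  rw [← e, Ideal.mem_bot] at this
  exact X_ne_zero 0 this

theorem cdim_bot : cdim (⊥ : Ideal S) = n + 1 := by
  have h := cdim_eq (n := n) (k := k) (p := ⊥) Ideal.isPrime_bot
  rw [ringKrullDim_eq_of_ringEquiv (RingEquiv.quotientBot S), MvPolynomial.ringKrullDim_of_isNoetherianRing,
    ringKrullDim_eq_zero_of_field, Nat.card_eq_fintype_card, Fintype.card_fin, zero_add] at h
  exact_mod_cast h.symm

theorem topologicalKrullDim_projSpace (n : ℕ) (k : Type u) [Field k] :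
    topologicalKrullDim ↥(CohB1.ProjSpace n k) = (n : WithBot ℕ∞) := by
  rw [topologicalKrullDim_eq_iSup (CohB1.ProjSpace.toSpec n k)]
  refine le_antisymm (iSup_le fun x => ?_) ?_
  · obtain ⟨x, rfl⟩ : ∃ x' : ProjectiveSpectrum (CohB1.polyGrading n k), pt x' = x := ⟨x, rfl⟩
    have h1 := ptDim_add_one x
    have h2 := cdim_le (p := (⊥ : Ideal (MvPolynomial (Fin (n + 1)) k))) Ideal.isPrime_bot x.isPrime bot_le
    rw [cdim_bot] at h2
    exact_mod_cast (show ptDim (CohB1.ProjSpace.toSpec n k) (pt x) ≤ n by omega)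
  · obtain ⟨η, hη⟩ := exists_point (n := n) (k := k) Ideal.isPrime_bot bot_isHomogeneous bot_ne_m0
    have h1 := ptDim_add_one η
    rw [hη, cdim_bot] at h1
    refine le_trans ?_ (le_iSup (fun x => (ptDim (CohB1.ProjSpace.toSpec n k) x : WithBot ℕ∞)) (pt η))
    exact_mod_cast (show n ≤ ptDim (CohB1.ProjSpace.toSpec n k) (pt η) by omega)

/-- Data of an irreducible closed subset. -/
theorem exists_generic (X : Set (ProjectiveSpectrum 𝒜)) (hXc : IsClosed X) (hXi : IsIrreducible X) :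
    ∃ x : ProjectiveSpectrum 𝒜, (∀ z, z ∈ X ↔ x ⤳ z) ∧
      topologicalKrullDim ↥X = (ptDim πP (pt x) : WithBot ℕ∞) := by
  have hq : QuasiSober ↥(CohB1.ProjSpace n k) := inferInstance
  obtain ⟨x, hx⟩ := hq.sober (hXi : IsIrreducible (X : Set ↥(CohB1.ProjSpace n k))) hXc
  exact ⟨x, fun z => ⟨fun h => hx.specializes h, fun h => hx.def ▸ specializes_iff_mem_closure.1 h⟩,
    topologicalKrullDim_eq_ptDim_of_isGenericPoint πP hx⟩

theorem forall_components_inter_iff (x : ProjectiveSpectrum 𝒜) (X : Set (ProjectiveSpectrum 𝒜))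
    (hX : ∀ z, z ∈ X ↔ x ⤳ z) (hXc : IsClosed X) (E : Set S) (P : WithBot ℕ∞ → Prop) :
    (∀ C ∈ irreducibleComponents ↥(X ∩ ProjectiveSpectrum.zeroLocus 𝒜 E), P (topologicalKrullDim ↥C)) ↔
      ∀ z, x ⤳ z → z ∈ ProjectiveSpectrum.zeroLocus 𝒜 E →
        (∀ w, x ⤳ w → w ∈ ProjectiveSpectrum.zeroLocus 𝒜 E → w ⤳ z → z = w) → P (ptDim πP (pt z)) := by
  refine Iff.trans (forall_components_subset_iff (X := CohB1.ProjSpace n k) πP
    (hXc.inter (ProjectiveSpectrum.isClosed_zeroLocus 𝒜 E)).isLocallyClosed P) ?_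
  constructor
  · intro h z hxz hz hmax
    exact h z ⟨(hX z).2 hxz, hz⟩ fun w hw hwz => hmax w ((hX w).1 hw.1) hw.2 hwz
  · intro h z hz hmax
    exact h z ((hX z).1 hz.1) hz.2 fun w hxw hw hwz => hmax w ⟨(hX w).2 hxw, hw⟩ hwz

/-- Krull bound for components of intersections with hypersurfaces. -/
theorem ptDim_le_add_of_maximal (x z : ProjectiveSpectrum 𝒜) (E : Finset S)
    (hE : ∀ e ∈ E, ∃ d, e.IsHomogeneous d) (hxz : x ⤳ z)
    (hz : z ∈ ProjectiveSpectrum.zeroLocus 𝒜 (E : Set S))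
    (hmax : ∀ w, x ⤳ w → w ∈ ProjectiveSpectrum.zeroLocus 𝒜 (E : Set S) → w ⤳ z → z = w) :
    ptDim πP (pt x) ≤ ptDim πP (pt z) + E.card := by
  have h := cdim_le_add x.isPrime E (mem_minimalPrimes_of_maximal x z _ hE hxz hz hmax)
  have h1 := ptDim_add_one x
  have h2 := ptDim_add_one z
  omega

end Groth.Agent.DimLib.PN
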