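import Groth.Agent.DimLib.Points
import Mathlib.AlgebraicGeometry.Morphisms.Preimmersion

/-! Dimension of images and fibres for schemes locally of finite type over a field. -/

universe u v

open CategoryTheory AlgebraicGeometry

namespace Groth.Agent.DimLib

variable {k : Type u} [Field k]

theorem isIso_residueFieldMap_of_isPreimmersion {X Y : Scheme.{u}} (g : Y ⟶ X) [IsPreimmersion g] (y : Y) :
    IsIso (g.residueFieldMap y) := by
  have hs : Function.Surjective (g.residueFieldMap y) := fun z => by
    obtain ⟨a, rfl⟩ := Y.residue_surjective y z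
    obtain ⟨b, rfl⟩ := g.stalkMap_surjective y a
    exact ⟨X.residue _ b, ConcreteCategory.congr_hom (Scheme.residue_residueFieldMap g y) b⟩
  exact (ConcreteCategory.isIso_iff_bijective _).2 ⟨(g.residueFieldMap y).hom.injective, hs⟩

theorem ptDim_comp_preimmersion {X Y : Scheme.{u}} (f : X ⟶ Spec (.of k)) (g : Y ⟶ X) [IsPreimmersion g]
    (y : Y) : ptDim (g ≫ f) y = ptDim f (g y) :=
  haveI := isIso_residueFieldMap_of_isPreimmersion g y
  ptDim_of_isIso f g y

theorem trdeg_lt_of_comp {R S T : Type u} [Field R] [Field S] [Field T] (φ : R →+* S) (ψ : S →+* T)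
    (h : @Algebra.trdeg R T _ _ (ψ.comp φ).toAlgebra < Cardinal.aleph0) :
    @Algebra.trdeg R S _ _ φ.toAlgebra < Cardinal.aleph0 ∧ @Algebra.trdeg S T _ _ ψ.toAlgebra < Cardinal.aleph0 := by
  algebraize [φ, ψ, ψ.comp φ]
  have e := trdeg_add_eq R S (A := T)
  change Algebra.trdeg R T < _ at h
  rw [← e] at h
  exact ⟨lt_of_le_of_lt le_self_add h, lt_of_le_of_lt le_add_self h⟩

variable {X Y : Scheme.{u}}

/-- Transitivity of transcendence degrees of residue fields. -/
theorem ptDim_comp (p : X ⟶ Spec (.of k)) (f : Y ⟶ X) [LocallyOfFiniteType (f ≫ p)] (y : Y) :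
    ptDim (f ≫ p) y = ptDim p (f y) + trdegHom (f.residueFieldMap y).hom := by
  have h := trdeg_baseRingHom_lt (f ≫ p) y
  rw [baseRingHom_comp] at h
  obtain ⟨h1, h2⟩ := trdeg_lt_of_comp _ _ h
  rw [ptDim, baseRingHom_comp, trdegHom_comp _ _ h1 h2]
  rfl

theorem ptDim_apply_le (p : X ⟶ Spec (.of k)) (f : Y ⟶ X) [LocallyOfFiniteType (f ≫ p)] (y : Y) :
    ptDim p (f y) ≤ ptDim (f ≫ p) y := by
  rw [ptDim_comp p f y]; omega

/-- `ptDim` on a fibre. -/
theorem ptDim_fiberι (p : X ⟶ Spec (.of k)) (f : Y ⟶ X) [LocallyOfFiniteType p] [LocallyOfFiniteType (f ≫ p)]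
    (x : X) (z : f.fiber x) :
    ptDim (f ≫ p) (f.fiberι x z) =
      ptDim p x + ptDim (k := X.residueField x) (f.fiberToSpecResidueField x) z := by
  have e : f.fiberι x ≫ f ≫ p =
      f.fiberToSpecResidueField x ≫ Spec.map (CommRingCat.ofHom (baseRingHom p x)) := by
    refine Eq.trans ?_ (congrArg (f.fiberToSpecResidueField x ≫ ·) (specMap_baseRingHom p x)).symm
    rw [← Category.assoc, f.fiber_fac, Category.assoc]
  rw [← ptDim_comp_preimmersion (f ≫ p) (f.fiberι x) z, e]
  have hb : baseRingHom (f.fiberToSpecResidueField x ≫ Spec.map (CommRingCat.ofHom (baseRingHom p x))) z = _ :=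
    baseRingHom_comp_specMap (K := X.residueField x) _ (baseRingHom p x) z
  have : LocallyOfFiniteType f := locallyOfFiniteType_of_comp f p
  have hz : LocallyOfFiniteType (f.fiberToSpecResidueField x) :=
    (inferInstanceAs (LocallyOfFiniteType (Limits.pullback.snd f (X.fromSpecResidueField x))))
  rw [ptDim, hb, trdegHom_comp _ _ (trdeg_baseRingHom_lt p x) (trdeg_baseRingHom_lt (k := X.residueField x) _ z)]
  rfl

theorem ptDim_eq_add_of_mem_fiber (p : X ⟶ Spec (.of k)) (f : Y ⟶ X) [LocallyOfFiniteType p]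
    [LocallyOfFiniteType (f ≫ p)] (y : Y) :
    ptDim (f ≫ p) y = ptDim p (f y) + ptDim (k := X.residueField (f y)) (f.fiberToSpecResidueField (f y)) (f.asFiber y) := by
  conv_lhs => rw [← f.fiberι_asFiber y]
  exact ptDim_fiberι p f (f y) (f.asFiber y)

/-- The dimension of the fibre over `x`, in terms of points. -/
theorem topologicalKrullDim_fiber_eq_iSup (f : Y ⟶ X) [LocallyOfFiniteType f] (x : X) :
    topologicalKrullDim (f.base ⁻¹' {x}) =
      ⨆ z : f.fiber x, (ptDim (k := X.residueField x) (f.fiberToSpecResidueField x) z : WithBot ℕ∞) := by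
  have : LocallyOfFiniteType (f.fiberToSpecResidueField x) := (inferInstanceAs (LocallyOfFiniteType (Limits.pullback.snd f (X.fromSpecResidueField x))))
  rw [← topologicalKrullDim_eq_iSup]
  exact (IsHomeomorph.topologicalKrullDim_eq _ (f.fiberHomeo x).isHomeomorph).symm

/-- If every point of the fibre over `x` has `ptDim ≤ ptDim x + d`, the fibre has dimension `≤ d`; and conversely. -/
theorem topologicalKrullDim_fiber_le_iff (p : X ⟶ Spec (.of k)) (f : Y ⟶ X) [LocallyOfFiniteType p]
    [LocallyOfFiniteType (f ≫ p)] (x : X) (d : ℕ) :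
    topologicalKrullDim (f.base ⁻¹' {x}) ≤ (d : WithBot ℕ∞) ↔
      ∀ y, f y = x → ptDim (f ≫ p) y ≤ ptDim p x + d := by
  have : LocallyOfFiniteType f := locallyOfFiniteType_of_comp f p
  rw [topologicalKrullDim_fiber_eq_iSup, iSup_le_iff]
  constructor
  · rintro h y rfl
    have := h (f.asFiber y)
    norm_cast at this
    rw [ptDim_eq_add_of_mem_fiber p f y]; omega
  · intro h z
    have hz : f (f.fiberι x z) = x := by
      have : f.fiberι x z ∈ Set.range (f.fiberι x) := ⟨z, rfl⟩
      rwa [f.range_fiberι] at this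
    have := h _ hz
    rw [ptDim_fiberι p f x z] at this
    exact_mod_cast (by omega : _ ≤ d)

theorem le_topologicalKrullDim_fiber_iff (p : X ⟶ Spec (.of k)) (f : Y ⟶ X) [LocallyOfFiniteType p]
    [LocallyOfFiniteType (f ≫ p)] (x : X) (d : ℕ) :
    (d : WithBot ℕ∞) ≤ topologicalKrullDim (f.base ⁻¹' {x}) ↔
      ∃ y, f y = x ∧ ptDim p x + d ≤ ptDim (f ≫ p) y := by
  constructor
  · intro h
    rcases (f.base ⁻¹' {x}).eq_empty_or_nonempty with he | ⟨y0, hy0⟩
    · have : IsEmpty (f.base ⁻¹' {x}) := Set.isEmpty_coe_sort.2 he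
      have hb : topologicalKrullDim (f.base ⁻¹' {x}) = ⊥ := by
        have : IsEmpty (TopologicalSpace.IrreducibleCloseds (f.base ⁻¹' {x})) :=
          ⟨fun s => this.false s.2.nonempty.some⟩
        exact Order.krullDim_eq_bot
      rw [hb] at h
      exact absurd h (by simp)
    · rcases d with _ | d
      · exact ⟨y0, hy0, by rw [← (show f y0 = x from hy0)]; simpa using ptDim_apply_le p f y0⟩
      · by_contra! hc
        have := (topologicalKrullDim_fiber_le_iff p f x d).2 (fun y hy => by have := hc y hy; omega)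
        have := h.trans this
        norm_cast at this
        omega
  · rintro ⟨y, rfl, hy⟩
    have : LocallyOfFiniteType f := locallyOfFiniteType_of_comp f p
    rw [topologicalKrullDim_fiber_eq_iSup]
    refine le_iSup_of_le (f.asFiber y) ?_
    rw [ptDim_eq_add_of_mem_fiber p f y] at hy
    exact_mod_cast (by omega : d ≤ _)

/-- Every point is a specialization of a maximal point. -/
theorem exists_maximal_specializes (x : X) :
    ∃ η : X, η ⤳ x ∧ ∀ z : X, z ⤳ η → η = z := by
  obtain ⟨η, hη⟩ := QuasiSober.sober (S := irreducibleComponent x)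
    isIrreducible_irreducibleComponent isClosed_irreducibleComponent
  refine ⟨η, hη.specializes mem_irreducibleComponent, fun z hz => ?_⟩
  have hsub : irreducibleComponent x ⊆ closure {z} := by
    rw [← hη.def]; exact specializes_iff_closure_subset.1 hz
  have : irreducibleComponent x = closure {z} :=
    (eq_irreducibleComponent isIrreducible_singleton.closure.isPreirreducible hsub).symm
  exact hη.eq (isGenericPoint_def.2 this.symm)

/-- Lift of a specialization of `f y` to the fibre dimension bound at maximal points. -/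
theorem topologicalKrullDim_le_of_forall_maximal (p : X ⟶ Spec (.of k)) [LocallyOfFiniteType p] (b : WithBot ℕ∞)
    (h : ∀ η : X, (∀ z : X, z ⤳ η → η = z) → (ptDim p η : WithBot ℕ∞) ≤ b) :
    topologicalKrullDim X ≤ b := by
  rw [topologicalKrullDim_eq_iSup p]
  refine iSup_le fun x => ?_
  obtain ⟨η, hη, hmax⟩ := exists_maximal_specializes x
  refine le_trans ?_ (h η hmax)
  by_cases e : η = x
  · rw [e]
  · exact_mod_cast (ptDim_lt_of_specializes p hη e).le

theorem ptDim_le_topologicalKrullDim (p : X ⟶ Spec (.of k)) [LocallyOfFiniteType p] (x : X) :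
    (ptDim p x : WithBot ℕ∞) ≤ topologicalKrullDim X := by
  rw [topologicalKrullDim_eq_iSup p]
  exact le_iSup (fun x : X => (ptDim p x : WithBot ℕ∞)) x

theorem add_topologicalKrullDim_le (p : X ⟶ Spec (.of k)) [LocallyOfFiniteType p] (r : ℕ) (D : WithBot ℕ∞)
    (h : ∀ η : X, (∀ z : X, z ⤳ η → η = z) → (r : WithBot ℕ∞) + (ptDim p η : WithBot ℕ∞) ≤ D) :
    (r : WithBot ℕ∞) + topologicalKrullDim X ≤ D := by
  rcases isEmpty_or_nonempty X with hX | hX
  · rw [topologicalKrullDim_eq_iSup p, iSup_of_empty, WithBot.add_bot]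
    exact bot_le
  obtain ⟨η, -, hη⟩ := exists_maximal_specializes (Classical.arbitrary X)
  have h0 := h η hη
  induction D using WithBot.recBotCoe with
  | bot => norm_cast at h0
  | coe D =>
    induction D using ENat.recTopCoe with
    | top => exact le_top
    | coe n =>
      have hb : topologicalKrullDim X ≤ ((n - r : ℕ) : WithBot ℕ∞) :=
        topologicalKrullDim_le_of_forall_maximal p _ fun η hη => by
          have := h η hη
          norm_cast at this ⊢
          omega
      refine le_trans (add_le_add le_rfl hb) ?_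
      have hrn : r ≤ n := by
        norm_cast at h0
        omega
      rw [← Nat.cast_add]
      exact Nat.cast_le.2 (show r + (n - r) ≤ n by omega)

end Groth.Agent.DimLib
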