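import Groth.Agent.DimLib.Algebra
import Mathlib.AlgebraicGeometry.Morphisms.FiniteType
import Mathlib.AlgebraicGeometry.Fiber
import Mathlib.AlgebraicGeometry.ResidueField
import Mathlib.AlgebraicGeometry.Noetherian
import Mathlib.Topology.KrullDimension

/-! Points of schemes locally of finite type over a field: dimension = transcendence degree. -/

universe u v

open CategoryTheory AlgebraicGeometry

namespace Groth.Agent.DimLib

instance isPrime_asIdeal_specPoint {A : CommRingCat.{u}} (P : Spec A) : (PrimeSpectrum.asIdeal P).IsPrime :=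
  PrimeSpectrum.isPrime P

/-- `Nat`-valued transcendence degree of a ring homomorphism. -/
noncomputable def trdegHom {R S : Type u} [CommRing R] [CommRing S] (φ : R →+* S) : ℕ :=
  (@Algebra.trdeg R S _ _ φ.toAlgebra).toNat

theorem trdegHom_algebraMap (R S : Type u) [CommRing R] [CommRing S] [Algebra R S] :
    trdegHom (algebraMap R S) = (Algebra.trdeg R S).toNat := by
  rw [trdegHom]; congr!; exact Algebra.algebra_ext _ _ fun _ => rfl

theorem trdegHom_comp_ringEquiv {R S T : Type u} [CommRing R] [CommRing S] [CommRing T]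
    (φ : R →+* S) (e : S ≃+* T) : trdegHom ((e : S →+* T).comp φ) = trdegHom φ := by
  letI := φ.toAlgebra
  letI := ((e : S →+* T).comp φ).toAlgebra
  let e' : S ≃ₐ[R] T := AlgEquiv.ofRingEquiv (f := e) (fun _ => rfl)
  exact congrArg Cardinal.toNat e'.trdeg_eq.symm

variable {k : Type u} [Field k]

/-- The map `k → κ(x)` for a point of a `k`-scheme. -/
noncomputable def baseRingHom {X : Scheme.{u}} (f : X ⟶ Spec (.of k)) (x : X) :
    k →+* X.residueField x :=
  (Spec.preimage (X.fromSpecResidueField x ≫ f)).hom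

/-- `trdeg_k κ(x)`. -/
noncomputable def ptDim {X : Scheme.{u}} (f : X ⟶ Spec (.of k)) (x : X) : ℕ :=
  trdegHom (baseRingHom f x)

theorem specMap_baseRingHom {X : Scheme.{u}} (f : X ⟶ Spec (.of k)) (x : X) :
    Spec.map (CommRingCat.ofHom (baseRingHom f x)) = X.fromSpecResidueField x ≫ f :=
  Spec.map_preimage _

theorem baseRingHom_comp {X Y : Scheme.{u}} (f : X ⟶ Spec (.of k)) (g : Y ⟶ X) (y : Y) :
    baseRingHom (g ≫ f) y = (g.residueFieldMap y).hom.comp (baseRingHom f (g y)) := by
  have : CommRingCat.ofHom (baseRingHom (g ≫ f) y) =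
      CommRingCat.ofHom (baseRingHom f (g y)) ≫ g.residueFieldMap y := by
    apply Spec.map_injective
    rw [Spec.map_comp, specMap_baseRingHom, specMap_baseRingHom,
      Scheme.Hom.SpecMap_residueFieldMap_fromSpecResidueField_assoc]
  exact congrArg CommRingCat.Hom.hom this

theorem ptDim_of_isIso {X Y : Scheme.{u}} (f : X ⟶ Spec (.of k)) (g : Y ⟶ X) (y : Y)
    [IsIso (g.residueFieldMap y)] : ptDim (g ≫ f) y = ptDim f (g y) := by
  rw [ptDim, baseRingHom_comp]
  exact trdegHom_comp_ringEquiv _ (asIso (g.residueFieldMap y)).commRingCatIsoToRingEquiv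

theorem baseRingHom_comp_specMap {K : Type u} [Field K] {X : Scheme.{u}} (g : X ⟶ Spec (.of K))
    (ρ : k →+* K) (x : X) :
    baseRingHom (g ≫ Spec.map (CommRingCat.ofHom ρ)) x = (baseRingHom g x).comp ρ := by
  have : CommRingCat.ofHom (baseRingHom (g ≫ Spec.map (CommRingCat.ofHom ρ)) x) =
      CommRingCat.ofHom ρ ≫ CommRingCat.ofHom (baseRingHom g x) := by
    apply Spec.map_injective
    rw [Spec.map_comp, specMap_baseRingHom, specMap_baseRingHom, Category.assoc]
  exact congrArg CommRingCat.Hom.hom this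

theorem ptDim_spec_aux {A : CommRingCat.{u}} (φ : k →+* A) (P : Spec A) :
    ptDim (Spec.map (CommRingCat.ofHom φ)) P = trdegHom ((algebraMap A (PrimeSpectrum.asIdeal P).ResidueField).comp φ) := by
  have hP : (PrimeSpectrum.asIdeal P).IsPrime := PrimeSpectrum.isPrime P
  rw [show ptDim (Spec.map (CommRingCat.ofHom φ)) P = trdegHom (baseRingHom (Spec.map (CommRingCat.ofHom φ)) P) from rfl, ← trdegHom_comp_ringEquiv ((algebraMap A P.asIdeal.ResidueField).comp φ)
    (Scheme.Spec.residueFieldIso A P).symm.commRingCatIsoToRingEquiv]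
  congr 1
  have : CommRingCat.ofHom (baseRingHom (Spec.map (CommRingCat.ofHom φ)) P) =
      CommRingCat.ofHom φ ≫ CommRingCat.ofHom (algebraMap A P.asIdeal.ResidueField) ≫
        (Scheme.Spec.residueFieldIso A P).inv := by
    apply Spec.map_injective
    rw [Spec.map_comp, Spec.map_comp, specMap_baseRingHom, Scheme.Spec.map_residueFieldIso_inv_eq_fromSpecResidueField]
    rfl
  exact congrArg CommRingCat.Hom.hom this

/-- In an affine chart `ptDim` is the dimension of `A/P`. -/
theorem ringKrullDim_quotient_eq_ptDim {A : CommRingCat.{u}} (φ : k →+* A) (hφ : φ.FiniteType)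
    (P : Spec A) :
    ringKrullDim (A ⧸ P.asIdeal) = (ptDim (Spec.map (CommRingCat.ofHom φ)) P : WithBot ℕ∞) := by
  have hP : P.asIdeal.IsPrime := P.isPrime
  algebraize [φ]
  rw [ptDim_spec_aux, ringKrullDim_eq_trdeg (k := k)]
  have h : (algebraMap A P.asIdeal.ResidueField).comp φ = algebraMap k P.asIdeal.ResidueField := rfl
  rw [h, trdegHom_algebraMap]
  have h0 : Algebra.trdeg (A ⧸ P.asIdeal) P.asIdeal.ResidueField = 0 := by
    have : Algebra.IsAlgebraic (A ⧸ P.asIdeal) P.asIdeal.ResidueField :=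
      IsLocalization.isAlgebraic _ (nonZeroDivisors (A ⧸ P.asIdeal))
    exact trdeg_eq_zero
  have := trdeg_add_eq k (A ⧸ P.asIdeal) (A := P.asIdeal.ResidueField)
  rw [h0, add_zero] at this
  rw [this]

variable {X : Scheme.{u}} (f : X ⟶ Spec (.of k)) [LocallyOfFiniteType f]

/-- An affine chart around a point. -/
theorem exists_chart (x : X) : ∃ (A : CommRingCat.{u}) (φ : k →+* A) (j : Spec A ⟶ X) (P : Spec A),
    IsOpenImmersion j ∧ φ.FiniteType ∧ j ≫ f = Spec.map (CommRingCat.ofHom φ) ∧ j P = x := by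
  obtain ⟨U, hU, hxU, -⟩ := exists_isAffineOpen_mem_and_subset (U := ⊤) (x := x) trivial
  obtain ⟨P, hP⟩ : x ∈ Set.range hU.fromSpec := by rw [hU.range_fromSpec]; exact hxU
  refine ⟨Γ(X, U), (Spec.preimage (hU.fromSpec ≫ f)).hom, hU.fromSpec, P, inferInstance, ?_,
    (Spec.map_preimage _).symm, hP⟩
  have : LocallyOfFiniteType (Spec.map (Spec.preimage (hU.fromSpec ≫ f))) := by
    rw [Spec.map_preimage]; infer_instance
  exact (HasRingHomProperty.Spec_iff (P := @LocallyOfFiniteType)).1 this

theorem ptDim_chart {A : CommRingCat.{u}} (φ : k →+* A) (hφ : φ.FiniteType) (j : Spec A ⟶ X)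
    [IsOpenImmersion j] (e : j ≫ f = Spec.map (CommRingCat.ofHom φ)) (P : Spec A) :
    ringKrullDim (A ⧸ P.asIdeal) = (ptDim f (j P) : WithBot ℕ∞) := by
  rw [ringKrullDim_quotient_eq_ptDim φ hφ P, ← ptDim_of_isIso f j P, e]

include f in
theorem ptDim_lt_of_specializes {x y : X} (h : x ⤳ y) (hne : x ≠ y) : ptDim f y < ptDim f x := by
  obtain ⟨A, φ, j, Q, hj, hφ, e, rfl⟩ := exists_chart f y
  obtain ⟨P, rfl⟩ : ∃ P : Spec A, j P = x := h.mem_open j.isOpenEmbedding.isOpen_range ⟨Q, rfl⟩
  have hQ' : Q.asIdeal.IsPrime := Q.isPrime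
  have hP' : P.asIdeal.IsPrime := P.isPrime
  have hPQ : (P : PrimeSpectrum A).asIdeal ≤ Q.asIdeal :=
    ((PrimeSpectrum.le_iff_specializes _ _).2 (j.isOpenEmbedding.isInducing.specializes_iff.1 h) :)
  have hlt : P.asIdeal < Q.asIdeal :=
    lt_of_le_of_ne hPQ fun e' => hne (congrArg _ (PrimeSpectrum.ext e' :))
  algebraize [φ]
  set B := A ⧸ P.asIdeal
  have hq : (Q.asIdeal.map (Ideal.Quotient.mk P.asIdeal)).IsPrime :=
    Ideal.map_isPrime_of_surjective Ideal.Quotient.mk_surjective (by rw [Ideal.mk_ker]; exact hlt.le)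
  have h1 := height_add_ringKrullDim_quotient (k := k) (A := B)
    (Q.asIdeal.map (Ideal.Quotient.mk P.asIdeal))
  rw [ringKrullDim_eq_of_ringEquiv (DoubleQuot.quotQuotEquivQuotOfLE (show (P.asIdeal : Ideal A) ≤ Q.asIdeal from hlt.le)),
    ptDim_chart f φ hφ j e P, ptDim_chart f φ hφ j e Q] at h1
  have h2 : (Q.asIdeal.map (Ideal.Quotient.mk P.asIdeal)).height ≠ 0 := by
    rw [Ne, Ideal.height_eq_zero_iff_eq_bot, Ideal.map_eq_bot_iff_le_ker, Ideal.mk_ker]
    exact hlt.not_ge
  revert h1 h2
  generalize (Q.asIdeal.map (Ideal.Quotient.mk P.asIdeal)).height = t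
  intro h1 h2
  cases t with
  | top =>
    norm_cast at h1
  | coe t =>
    norm_cast at h1 h2
    omega

/-- The height of a point in the specialization order is `trdeg_k κ(x)`. -/
theorem height_eq_ptDim (x : X) : Order.height x = (ptDim f x : ℕ∞) := by
  refine le_antisymm ?_ ?_
  · refine Order.height_le fun l hl => ?_
    have h : ∀ i : Fin (l.length + 1), i.val ≤ ptDim f (l i) := by
      intro i
      induction i using Fin.induction with
      | zero => simp
      | succ i ih =>
        have hs := (l.step i)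
        have := ptDim_lt_of_specializes f (Scheme.le_iff_specializes.1 hs.le) (fun e => hs.ne e.symm)
        simp only [Fin.val_succ, Fin.val_castSucc] at ih ⊢
        omega
    have := h (Fin.last _)
    rw [← hl]
    exact_mod_cast this
  · obtain ⟨A, φ, j, P, hj, hφ, e, rfl⟩ := exists_chart f x
    algebraize [φ]
    have hP' : P.asIdeal.IsPrime := P.isPrime
    have h1 := ptDim_chart f φ hφ j e P
    obtain ⟨m, hm⟩ := Ideal.exists_maximal (A ⧸ P.asIdeal)
    have h2 := height_eq_of_isMaximal (k := k) m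
    rw [h1] at h2
    have h3 : m.height = (ptDim f (j P) : ℕ∞) := by exact_mod_cast h2
    have : IsNoetherianRing (A ⧸ P.asIdeal) := Algebra.FiniteType.isNoetherianRing k _
    obtain ⟨l, hl, hlen⟩ := m.exists_ltSeries_length_eq_height
    have hgen : ∀ i, P.asIdeal ≤ (l i).asIdeal.comap (Ideal.Quotient.mk _) := fun i => by
      conv_lhs => rw [← Ideal.mk_ker (I := P.asIdeal)]
      exact Ideal.ker_le_comap _
    let g : PrimeSpectrum (A ⧸ P.asIdeal) → X :=
      fun q => j (PrimeSpectrum.comap (Ideal.Quotient.mk _) q)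
    have hg : ∀ {q q'}, q < q' → g q' < g q := by
      intro q q' hqq
      have hlt := RingHom.strictMono_comap_of_surjective (Ideal.Quotient.mk_surjective) hqq
      have hs : g q ⤳ g q' := ((PrimeSpectrum.le_iff_specializes _ _).1 hlt.le).map j.continuous
      refine lt_of_le_not_ge (Scheme.le_iff_specializes.2 hs) fun h => hlt.ne ?_
      exact j.isOpenEmbedding.injective (hs.antisymm (Scheme.le_iff_specializes.1 h)).eq
    let l' : LTSeries X := LTSeries.mk l.length (fun i => g (l i.rev))
      (fun a b hab => hg (l.strictMono (Fin.rev_lt_rev.2 hab)))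
    refine le_trans ?_ (Order.length_le_height (p := l') ?_)
    · rw [← h3, ← hlen]; rfl
    · rw [Scheme.le_iff_specializes]
      show j P ⤳ g (l (Fin.rev (Fin.last _)))
      exact ((PrimeSpectrum.le_iff_specializes (P : PrimeSpectrum A) _).1 (hgen _)).map j.continuous

theorem ptDim_eq_zero_iff (x : X) : ptDim f x = 0 ↔ IsClosed ({x} : Set X) := by
  refine ⟨fun h => ?_, fun h => ?_⟩
  · refine closure_subset_iff_isClosed.1 fun y hy => ?_
    by_contra hne
    have := ptDim_lt_of_specializes f (specializes_iff_mem_closure.2 hy) (Ne.symm hne)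
    omega
  · have := height_eq_ptDim f x
    rw [Scheme.height_of_isClosed h] at this
    exact_mod_cast this.symm

omit [LocallyOfFiniteType f] in
/-- The dimension of a scheme is the Krull dimension of its points. -/
theorem topologicalKrullDim_eq_krullDim {X : Scheme.{u}} : topologicalKrullDim X = Order.krullDim X :=
  let _ : PartialOrder X := specializationOrder X
  Order.krullDim_eq_of_orderIso irreducibleSetEquivPoints

theorem topologicalKrullDim_eq_iSup :
    topologicalKrullDim X = ⨆ x : X, (ptDim f x : WithBot ℕ∞) := by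
  rw [topologicalKrullDim_eq_krullDim]
  rcases isEmpty_or_nonempty X with h | h
  · rw [Order.krullDim_eq_bot, iSup_of_empty]
  · rw [Order.krullDim_eq_iSup_height]
    refine iSup_congr fun x => ?_
    rw [height_eq_ptDim f x]; rfl

/-- For irreducible `X`, the dimension is `trdeg_k κ(η)`. -/
theorem topologicalKrullDim_eq_ptDim_genericPoint [IrreducibleSpace X] :
    topologicalKrullDim X = (ptDim f (genericPoint X) : WithBot ℕ∞) := by
  rw [topologicalKrullDim_eq_iSup f]
  refine le_antisymm (iSup_le fun x => ?_) (le_iSup (fun x : X => (ptDim f x : WithBot ℕ∞)) _)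
  by_cases h : genericPoint X = x
  · rw [h]
  · exact_mod_cast (ptDim_lt_of_specializes f (genericPoint_specializes x) h).le

theorem trdegHom_comp {R S T : Type u} [Field R] [Field S] [Field T] (φ : R →+* S) (ψ : S →+* T)
    (h1 : @Algebra.trdeg R S _ _ φ.toAlgebra < Cardinal.aleph0)
    (h2 : @Algebra.trdeg S T _ _ ψ.toAlgebra < Cardinal.aleph0) :
    trdegHom (ψ.comp φ) = trdegHom φ + trdegHom ψ := by
  algebraize [φ, ψ, ψ.comp φ]
  have := trdeg_add_eq R S (A := T)
  show (Algebra.trdeg R T).toNat = _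
  rw [← this, Cardinal.toNat_add h1 h2]
  rfl

theorem trdeg_comp_ringEquiv {R S T : Type u} [CommRing R] [CommRing S] [CommRing T]
    (φ : R →+* S) (e : S ≃+* T) :
    @Algebra.trdeg R T _ _ ((e : S →+* T).comp φ).toAlgebra = @Algebra.trdeg R S _ _ φ.toAlgebra := by
  letI := φ.toAlgebra
  letI := ((e : S →+* T).comp φ).toAlgebra
  exact (AlgEquiv.ofRingEquiv (f := e) (fun _ => rfl) : S ≃ₐ[R] T).trdeg_eq.symm

theorem trdeg_baseRingHom_lt (x : X) :
    @Algebra.trdeg k (X.residueField x) _ _ (baseRingHom f x).toAlgebra < Cardinal.aleph0 := by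
  obtain ⟨A, φ, j, P, hj, hφ, e, rfl⟩ := exists_chart f x
  algebraize [φ]
  have hP' : P.asIdeal.IsPrime := P.isPrime
  let r := (Scheme.Spec.residueFieldIso A P).symm.commRingCatIsoToRingEquiv
  let r' := (asIso (Scheme.Hom.residueFieldMap j P)).commRingCatIsoToRingEquiv
  have h1 := baseRingHom_comp f j P
  rw [← trdeg_comp_ringEquiv (baseRingHom f (j P)) r']
  change @Algebra.trdeg k _ _ _ ((Scheme.Hom.residueFieldMap j P).hom.comp (baseRingHom f (j P))).toAlgebra < _
  rw [← h1, e]
  have h2 : baseRingHom (Spec.map (CommRingCat.ofHom φ)) P =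
      (r : _ →+* _).comp ((algebraMap A P.asIdeal.ResidueField).comp φ) := by
    have : CommRingCat.ofHom (baseRingHom (Spec.map (CommRingCat.ofHom φ)) P) =
        CommRingCat.ofHom φ ≫ CommRingCat.ofHom (algebraMap A P.asIdeal.ResidueField) ≫
          (Scheme.Spec.residueFieldIso A P).inv := by
      apply Spec.map_injective
      rw [Spec.map_comp, Spec.map_comp, specMap_baseRingHom]
      exact congrArg (· ≫ _) (Scheme.Spec.map_residueFieldIso_inv_eq_fromSpecResidueField A P).symm
    exact congrArg CommRingCat.Hom.hom this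
  rw [h2, trdeg_comp_ringEquiv]
  have h0 : Algebra.trdeg (A ⧸ P.asIdeal) P.asIdeal.ResidueField = 0 := by
    have : Algebra.IsAlgebraic (A ⧸ P.asIdeal) P.asIdeal.ResidueField :=
      IsLocalization.isAlgebraic _ (nonZeroDivisors (A ⧸ P.asIdeal))
    exact trdeg_eq_zero
  have h3 := trdeg_add_eq k (A ⧸ P.asIdeal) (A := P.asIdeal.ResidueField)
  rw [h0, add_zero] at h3
  have : ((algebraMap A P.asIdeal.ResidueField).comp φ).toAlgebra = (inferInstance : Algebra k P.asIdeal.ResidueField) :=
    Algebra.algebra_ext _ _ fun _ => rfl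
  rw [this, ← h3]
  exact trdeg_lt_aleph0_of_finiteType

end Groth.Agent.DimLib
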