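import Groth.Agent.DimLib.Maximal
import Groth.Prelude.Def_CurvBase

/-! `baseRingHom` is the residue map of the prelude. -/

universe u

open CategoryTheory AlgebraicGeometry

namespace Groth.Agent.DimLib

variable {k : Type u} [Field k]

theorem baseRingHom_eq_resMap (X : Scheme.{u}) [X.Over (Spec (CommRingCat.of k))] (x : X) :
    baseRingHom (X ↘ Spec (CommRingCat.of k)) x = Curv2.resMap k X x := by
  have : CommRingCat.ofHom (baseRingHom (X ↘ Spec (CommRingCat.of k)) x) =
      (Scheme.ΓSpecIso (CommRingCat.of k)).inv ≫ (X ↘ Spec (CommRingCat.of k)).appTop ≫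
        X.presheaf.germ ⊤ x trivial ≫ X.residue x := by
    apply Spec.map_injective
    rw [specMap_baseRingHom, Spec.map_comp, Spec.map_comp, Spec.map_comp, Scheme.fromSpecResidueField,
      Category.assoc, Category.assoc, Category.assoc]
    congr 1
    rw [← Scheme.fromSpecStalk_toSpecΓ, Category.assoc, ← Scheme.toSpecΓ_naturality_assoc,
      toSpecΓ_SpecMap_ΓSpecIso_inv, Category.comp_id]
  exact congrArg CommRingCat.Hom.hom this

end Groth.Agent.DimLib
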