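import Groth.Agent.DimLib.Bound
import Mathlib.RingTheory.Ideal.KrullsHeightTheorem
import Mathlib.RingTheory.Regular.RegularSequence

/-! Krull's height bound in terms of `ptDim`: cutting by `c` equations lowers dimension by at most `c`. -/

universe u

open CategoryTheory AlgebraicGeometry Topology

namespace Groth.Agent.DimLib

variable {k : Type u} [Field k] {X Y : Scheme.{u}}

theorem ptDim_le_add_of_minimal_zero (p : X ⟶ Spec (.of k)) [LocallyOfFiniteType p] {U : X.Opens}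
    (hU : IsAffineOpen U) (s : Finset Γ(X, U)) {η x : X} (h : η ⤳ x) (hxU : x ∈ U)
    (hxs : ∀ r ∈ s, x ∉ X.basicOpen r)
    (hmin : ∀ z, η ⤳ z → z ⤳ x → z ∈ U → (∀ r ∈ s, z ∉ X.basicOpen r) → z = x) :
    ptDim p η ≤ ptDim p x + s.card := by
  classical
  obtain ⟨φ, hφ'⟩ := Spec.map_surjective (hU.fromSpec ≫ p)
  have hφ : φ.hom.FiniteType := by
    have : LocallyOfFiniteType (Spec.map φ) := by rw [hφ']; infer_instance
    exact (HasRingHomProperty.Spec_iff (P := @LocallyOfFiniteType)).1 this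
  have e : hU.fromSpec ≫ p = Spec.map (CommRingCat.ofHom φ.hom) := hφ'.symm
  have hηU : η ∈ U := h.mem_open U.2 hxU
  obtain ⟨P, rfl⟩ : x ∈ Set.range hU.fromSpec := by rw [hU.range_fromSpec]; exact hxU
  obtain ⟨Q, rfl⟩ : η ∈ Set.range hU.fromSpec := by rw [hU.range_fromSpec]; exact hηU
  obtain ⟨P, rfl⟩ : ∃ P' : PrimeSpectrum Γ(X, U), P' = P := ⟨P, rfl⟩
  obtain ⟨Q, rfl⟩ : ∃ Q' : PrimeSpectrum Γ(X, U), Q' = Q := ⟨Q, rfl⟩
  have hmem : ∀ (z : PrimeSpectrum Γ(X, U)) r, hU.fromSpec z ∉ X.basicOpen r ↔ r ∈ z.asIdeal := by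
    intro z r
    have := iff_of_eq (congrArg (z ∈ ·) (hU.fromSpec_preimage_basicOpen r))
    exact (not_congr this).trans (by
      change ¬ (z ∈ PrimeSpectrum.basicOpen r) ↔ _
      rw [PrimeSpectrum.mem_basicOpen, not_not])
  have hQP : Q.asIdeal ≤ P.asIdeal :=
    (PrimeSpectrum.le_iff_specializes Q P).2 (hU.fromSpec.isOpenEmbedding.isInducing.specializes_iff.1 h)
  have hQi : Q.asIdeal.IsPrime := Q.isPrime
  have hPi : P.asIdeal.IsPrime := P.isPrime
  algebraize [φ.hom]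
  have : IsNoetherianRing Γ(X, U) := Algebra.FiniteType.isNoetherianRing k Γ(X, U)
  let P' := P.asIdeal.map (Ideal.Quotient.mk Q.asIdeal)
  have hP' : P'.IsPrime := Ideal.map_isPrime_of_surjective Ideal.Quotient.mk_surjective (by rw [Ideal.mk_ker]; exact hQP)
  have hc : P'.comap (Ideal.Quotient.mk Q.asIdeal) = P.asIdeal := by
    rw [Ideal.comap_map_of_surjective _ Ideal.Quotient.mk_surjective, ← RingHom.ker_eq_comap_bot, Ideal.mk_ker, sup_eq_left.2 hQP]
  let t := s.image (Ideal.Quotient.mk Q.asIdeal)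
  have ht : P' ∈ (Ideal.span (t : Set (Γ(X, U) ⧸ Q.asIdeal))).minimalPrimes := by
    refine ⟨⟨hP', ?_⟩, fun J hJ hJP => ?_⟩
    · rw [Ideal.span_le]
      intro b hb
      obtain ⟨r, hr, rfl⟩ := Finset.mem_image.1 hb
      exact Ideal.mem_map_of_mem _ ((hmem P r).1 (hxs r hr))
    · let z : PrimeSpectrum Γ(X, U) := ⟨J.comap (Ideal.Quotient.mk Q.asIdeal), hJ.1.comap _⟩
      have hQz : Q.asIdeal ≤ z.asIdeal := le_trans (Ideal.mk_ker (I := Q.asIdeal)).ge (Ideal.ker_le_comap _)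
      have hzP : z.asIdeal ≤ P.asIdeal := hc ▸ Ideal.comap_mono hJP
      have hzU : hU.fromSpec z ∈ U := hU.range_fromSpec.le ⟨z, rfl⟩
      have := hmin (hU.fromSpec z) (((PrimeSpectrum.le_iff_specializes Q z).1 hQz).map hU.fromSpec.continuous)
        (((PrimeSpectrum.le_iff_specializes z P).1 hzP).map hU.fromSpec.continuous) hzU
        (fun r hr => (hmem z r).2 (hJ.2 (Ideal.subset_span (Finset.mem_image_of_mem _ hr))))
      have e' : z.asIdeal = P.asIdeal := congrArg PrimeSpectrum.asIdeal (hU.fromSpec.isOpenEmbedding.injective this)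
      rw [← Ideal.map_comap_of_surjective (Ideal.Quotient.mk Q.asIdeal) Ideal.Quotient.mk_surjective J]
      exact (congrArg (Ideal.map _) e').ge
  have h1 := Ideal.height_le_card_of_mem_minimalPrimes_span_finset ht
  have h2 := height_add_ringKrullDim_quotient (k := k) (A := Γ(X, U) ⧸ Q.asIdeal) P'
  rw [ringKrullDim_eq_of_ringEquiv (DoubleQuot.quotQuotEquivQuotOfLE hQP),
    ptDim_chart p φ.hom hφ hU.fromSpec e Q, ptDim_chart p φ.hom hφ hU.fromSpec e P] at h2
  have h3 : P'.height ≤ (s.card : ℕ∞) := h1.trans (by exact_mod_cast Finset.card_image_le)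
  obtain ⟨m, hm⟩ := ENat.ne_top_iff_exists.1 (ne_top_of_le_ne_top (ENat.natCast_ne_top _) h3)
  rw [← hm] at h2 h3
  norm_cast at h2 h3
  omega

/-- Points of `range ι` inside a good affine are cut out by the kernel. -/
theorem mem_range_iff_forall_ker {W : Scheme.{u}} (ι : W ⟶ X) {U : X.Opens} (hU : IsAffineOpen U)
    [IsClosedImmersion (ι ∣_ U)] {x : X} (hx : x ∈ U) :
    x ∈ Set.range ι ↔ ∀ r ∈ RingHom.ker (ι.app U).hom, x ∉ X.basicOpen r := by
  constructor
  · rintro ⟨w, rfl⟩ r hr hb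
    have : w ∈ ι ⁻¹ᵁ X.basicOpen r := hb
    rw [Scheme.preimage_basicOpen, show (ι.app U).hom r = 0 from hr, Scheme.basicOpen_zero] at this
    exact this
  · intro h
    by_contra hx'
    have hcl : IsClosed (Subtype.val ⁻¹' Set.range ι : Set U) := by
      have := (ι ∣_ U).isClosedEmbedding.isClosed_range
      convert this using 1
      ext ⟨y, hy⟩
      constructor
      · rintro ⟨w, rfl⟩
        exact ⟨⟨w, hy⟩, Subtype.ext (morphismRestrict_base_coe ι U ⟨w, hy⟩)⟩
      · rintro ⟨w, hw⟩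
        exact ⟨w.1, (morphismRestrict_base_coe ι U w).symm.trans (congrArg Subtype.val hw)⟩
    obtain ⟨C, hC, hCeq⟩ := isClosed_induced_iff.1 hcl
    have hxC : x ∉ C := fun hxC => hx' ((Set.ext_iff.1 hCeq ⟨x, hx⟩).1 hxC)
    obtain ⟨r, hr, hxr⟩ := hU.exists_basicOpen_le (V := ⟨Cᶜ, hC.isOpen_compl⟩) ⟨x, hxC⟩ hx
    have hbot : (ι ⁻¹ᵁ X.basicOpen r) = ⊥ := by
      ext w
      refine ⟨fun hw => ?_, fun hw => hw.elim⟩
      exact absurd ((Set.ext_iff.1 hCeq ⟨ι w, X.basicOpen_le r hw⟩).2 ⟨w, rfl⟩) (hr hw)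
    have : IsAffine (U : Scheme.{u}) := hU
    have hcpt : IsCompact ((ι ⁻¹ᵁ U : W.Opens) : Set W) := by
      have : IsAffine (ι ⁻¹ᵁ U : Scheme.{u}) := isAffine_of_isAffineHom (ι ∣_ U)
      exact IsAffineOpen.isCompact this
    rw [Scheme.preimage_basicOpen] at hbot
    obtain ⟨m, hm⟩ := (Scheme.isNilpotent_iff_basicOpen_eq_bot_of_isCompact hcpt _).2 hbot
    rcases Nat.eq_zero_or_pos m with rfl | hm0
    · refine h 1 (by rw [RingHom.mem_ker, map_one]; simpa using hm) ?_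
      rw [Scheme.basicOpen_of_isUnit _ isUnit_one]; exact hx
    · refine h (r ^ m) (by rw [RingHom.mem_ker, map_pow]; exact hm) ?_
      rw [Scheme.basicOpen_pow X r hm0]; exact hxr

/-- Local equations: `range ι` near `w` is the common zero set of a finite set of `c` sections. -/
theorem range_eq_zero_of_ker {W : Scheme.{u}} (ι : W ⟶ X) {U : X.Opens} (hU : IsAffineOpen U)
    [IsClosedImmersion (ι ∣_ U)] (rs : List Γ(X, U))
    (hker : RingHom.ker (ι.app U).hom = Ideal.ofList rs) [DecidableEq Γ(X, U)] {x : X} (hx : x ∈ U) :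
    x ∈ Set.range ι ↔ ∀ r ∈ rs.toFinset, x ∉ X.basicOpen r := by
  rw [mem_range_iff_forall_ker ι hU hx]
  constructor
  · intro h r hr
    exact h r (by rw [hker]; exact Ideal.subset_span (List.mem_toFinset.1 hr))
  · intro h r hr
    rw [hker] at hr
    obtain ⟨P, rfl⟩ : x ∈ Set.range hU.fromSpec := by rw [hU.range_fromSpec]; exact hx
    intro hb
    have hb' : r ∉ (show PrimeSpectrum Γ(X, U) from P).asIdeal := (iff_of_eq (congrArg (P ∈ ·) (hU.fromSpec_preimage_basicOpen r))).1 hb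
    refine hb' (Ideal.span_le.2 (fun q (hq : q ∈ rs) => ?_) hr)
    by_contra hq'
    exact h q (List.mem_toFinset.2 hq) ((iff_of_eq (congrArg (P ∈ ·) (hU.fromSpec_preimage_basicOpen q))).2 hq')

end Groth.Agent.DimLib
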