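import Groth.Agent.DimLib.Maximal

/-! Numerical dimension bounds for subsets, in terms of points. -/

universe u

open CategoryTheory CategoryTheory.Limits AlgebraicGeometry Topology

namespace Groth.Agent.DimLib

variable {k : Type u} [Field k] {X Y : Scheme.{u}}

theorem iSup_add_le_iff {ι : Type*} (a : ι → ℕ) (j n : ℕ) :
    (⨆ i, (a i : WithBot ℕ∞)) + (j : WithBot ℕ∞) ≤ (n : WithBot ℕ∞) ↔ ∀ i, a i + j ≤ n := by
  constructor
  · intro h i
    exact_mod_cast (add_le_add (le_iSup (fun i => (a i : WithBot ℕ∞)) i) le_rfl).trans h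
  · intro h
    rcases isEmpty_or_nonempty ι with he | ⟨⟨i₀⟩⟩
    · rw [iSup_of_empty, WithBot.bot_add]; exact bot_le
    · have := h i₀
      calc (⨆ i, (a i : WithBot ℕ∞)) + (j : WithBot ℕ∞) ≤ ((n - j : ℕ) : WithBot ℕ∞) + (j : WithBot ℕ∞) :=
            add_le_add (iSup_le fun i => by have := h i; exact_mod_cast (show a i ≤ n - j by omega)) le_rfl
        _ = (n : WithBot ℕ∞) := by exact_mod_cast (by omega : n - j + j = n)

theorem dim_closed_add_le_iff (p : X ⟶ Spec (.of k)) [LocallyOfFiniteType p] {Z : Set X} (hZ : IsClosed Z)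
    (j n : ℕ) : topologicalKrullDim Z + (j : WithBot ℕ∞) ≤ n ↔ ∀ x ∈ Z, ptDim p x + j ≤ n := by
  rw [topologicalKrullDim_closed_eq_iSup p hZ, iSup_add_le_iff]
  exact Subtype.forall

theorem dim_add_le_iff (p : X ⟶ Spec (.of k)) [LocallyOfFiniteType p] (j n : ℕ) :
    topologicalKrullDim X + (j : WithBot ℕ∞) ≤ n ↔ ∀ x : X, ptDim p x + j ≤ n := by
  rw [topologicalKrullDim_eq_iSup p, iSup_add_le_iff]

theorem topologicalKrullDim_fiber_eq_preimage (f : Y ⟶ X) (x : X) :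
    topologicalKrullDim ↥(f.fiber x) = topologicalKrullDim ↥(f.base ⁻¹' {x}) :=
  (f.fiberHomeo x).isHomeomorph.topologicalKrullDim_eq

theorem dim_preimage_range_add_le_iff {W : Scheme.{u}} (p : Y ⟶ Spec (.of k)) [LocallyOfFiniteType p]
    (f : Y ⟶ X) (ι : W ⟶ X) [IsImmersion ι] (j n : ℕ) :
    topologicalKrullDim ↥(f.base ⁻¹' Set.range ι.base) + (j : WithBot ℕ∞) ≤ n ↔
      ∀ y, f y ∈ Set.range ι → ptDim p y + j ≤ n := by
  have hr : Set.range (pullback.fst f ι) = f.base ⁻¹' Set.range ι.base := Scheme.Pullback.range_fst f ι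
  have e : topologicalKrullDim ↥(pullback f ι) = topologicalKrullDim ↥(f.base ⁻¹' Set.range ι.base) :=
    ((pullback.fst f ι).isEmbedding.toHomeomorph.trans (Homeomorph.setCongr hr)).isHomeomorph.topologicalKrullDim_eq
  rw [← e, dim_add_le_iff (pullback.fst f ι ≫ p)]
  constructor
  · intro h y hy
    obtain ⟨a, rfl⟩ : y ∈ Set.range (pullback.fst f ι) := by rw [hr]; exact hy
    rw [← ptDim_comp_preimmersion p]; exact h a
  · intro h a
    rw [ptDim_comp_preimmersion]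
    refine h _ ?_
    have : pullback.fst f ι a ∈ f.base ⁻¹' Set.range ι.base := hr ▸ ⟨a, rfl⟩
    exact this

theorem exists_mem_specializes_of_maximal [TopologicalSpace.NoetherianSpace X] {S : Set X} {ξ : X}
    (hξ : ξ ∈ closure S) (hmax : ∀ z ∈ closure S, z ⤳ ξ → z = ξ) {V : Set X} (hV : IsOpen V) (hξV : ξ ∈ V) :
    ∃ x ∈ S, x ∈ V ∧ ξ ⤳ x := by
  obtain ⟨F, hF, hFS⟩ := TopologicalSpace.NoetherianSpace.exists_finite_set_isClosed_irreducible
    (isClosed_closure (s := S))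
  let C := ⋃ Z ∈ {Z ∈ F | ξ ∉ Z}, Z
  have hC : IsClosed C := by
    refine Set.Finite.isClosed_biUnion (hF.subset fun Z hZ => hZ.1) fun Z hZ => ?_
    exact hFS.1 Z hZ.1
  obtain ⟨x, hx, hxS⟩ := mem_closure_iff.1 hξ (V ∩ Cᶜ) (hV.inter hC.isOpen_compl)
    ⟨hξV, by simp [C]⟩
  refine ⟨x, hxS, hx.1, ?_⟩
  have hxc : x ∈ ⋃₀ F := hFS.2.2 ▸ subset_closure hxS
  obtain ⟨Z, hZ, hxZ⟩ := hxc
  have hξZ : ξ ∈ Z := by
    by_contra h
    exact hx.2 (Set.mem_biUnion (show Z ∈ {Z ∈ F | ξ ∉ Z} from ⟨hZ, h⟩) hxZ)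
  obtain ⟨g, hg⟩ := QuasiSober.sober (hFS.2.1 Z hZ) (hFS.1 Z hZ)
  have hgS : g ∈ closure S := hFS.2.2 ▸ ⟨Z, hZ, hg.mem⟩
  rw [← hmax g hgS (hg.specializes hξZ)]
  exact hg.specializes hxZ

/-- The bound on the closure of the loci of large fibre dimension. -/
theorem ptDim_add_le_of_closure [CompactSpace X] (p : X ⟶ Spec (.of k)) (f : Y ⟶ X)
    [LocallyOfFiniteType p] [LocallyOfFiniteType (f ≫ p)] [QuasiCompact (f ≫ p)] (j n : ℕ)
    (hn : ∀ y, ptDim (f ≫ p) y ≤ n) {ξ : X}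
    (hξ : ξ ∈ closure {x : X | ∃ y, f y = x ∧ ptDim p x + j ≤ ptDim (f ≫ p) y}) :
    ptDim p ξ + j ≤ n := by
  classical
  set S := {x : X | ∃ y, f y = x ∧ ptDim p x + j ≤ ptDim (f ≫ p) y}
  have : IsLocallyNoetherian X := LocallyOfFiniteType.isLocallyNoetherian p
  have : IsNoetherian X := {}
  have : CompactSpace Y := QuasiCompact.compactSpace_of_compactSpace (f ≫ p)
  have : IsLocallyNoetherian Y := LocallyOfFiniteType.isLocallyNoetherian (f ≫ p)
  have : IsNoetherian Y := {}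
  -- replace ξ by a maximal point of the closure above it
  suffices h : ∀ m, ∀ ξ ∈ closure S, (∀ z ∈ closure S, z ⤳ ξ → z = ξ) → m = ptDim p ξ → m + j ≤ n by
    by_contra hc
    have hex : ∃ ξ' ∈ closure S, ξ' ⤳ ξ ∧ ∀ z ∈ closure S, z ⤳ ξ' → z = ξ' := by
      obtain ⟨G, hG, hGS⟩ := TopologicalSpace.NoetherianSpace.exists_finite_set_isClosed_irreducible
        (isClosed_closure (s := S))
      let P : ℕ → Prop := fun m => ∃ z ∈ closure S, z ⤳ ξ ∧ ptDim p z = m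
      have hbd : ∀ m, P m → m ≤ ((hG.toFinset.attach).sup fun Z =>
          ptDim p (hGS.2.1 Z.1 (hG.mem_toFinset.1 Z.2)).genericPoint) := by
        rintro m ⟨z, hz, -, rfl⟩
        obtain ⟨Z, hZ, hzZ⟩ := (hGS.2.2 ▸ hz : z ∈ ⋃₀ G)
        refine le_trans ?_ (Finset.le_sup (Finset.mem_attach _ ⟨Z, by simpa using hZ⟩))
        exact ptDim_le_of_specializes p
          (((hGS.2.1 Z hZ).isGenericPoint_genericPoint (hGS.1 Z hZ)).specializes hzZ)
      obtain ⟨z, hz, hzξ, hzm⟩ := Nat.findGreatest_spec (P := P) (hbd _ ⟨ξ, hξ, specializes_rfl, rfl⟩)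
        ⟨ξ, hξ, specializes_rfl, rfl⟩
      refine ⟨z, hz, hzξ, fun w hw hwz => eq_of_specializes_of_ptDim_le p hwz ?_⟩
      rw [hzm]
      exact Nat.le_findGreatest (hbd _ ⟨w, hw, hwz.trans hzξ, rfl⟩) ⟨w, hw, hwz.trans hzξ, rfl⟩
    obtain ⟨ξ', h1, h2, h3⟩ := hex
    have := h _ ξ' h1 h3 rfl
    have := ptDim_le_of_specializes p h2
    omega
  rintro _ ξ hξ hmax rfl
  obtain ⟨F, hF, hFY⟩ := TopologicalSpace.NoetherianSpace.exists_finite_set_isClosed_irreducible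
    ((isClosed_closure (s := {ξ})).preimage f.continuous)
  have hV : ∀ Z : F, ∃ V : Set X, IsOpen V ∧ ξ ∈ V ∧ ∀ y ∈ Z.1, f y ∈ V →
      ptDim (f ≫ p) y + ptDim p ξ ≤ ptDim p (f y) + n := by
    rintro ⟨Z, hZ⟩
    obtain ⟨η, hη⟩ := QuasiSober.sober (hFY.2.1 Z hZ) (hFY.1 Z hZ)
    have hfη : ξ ⤳ f η := specializes_iff_mem_closure.2
      (show η ∈ f ⁻¹' closure {ξ} from hFY.2.2 ▸ ⟨Z, hZ, hη.mem⟩)
    by_cases he : f η = ξ
    · obtain ⟨V, hV1, hV2⟩ := exists_open_ptDim_add_le p f η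
      refine ⟨V, V.2, he ▸ hV1, fun y hy hyV => ?_⟩
      have h1 := hV2 y (hη.specializes hy) hyV
      have h2 := hn η
      rw [he] at h1
      omega
    · refine ⟨(closure {f η})ᶜ, isClosed_closure.isOpen_compl, fun h => he ?_, fun y hy hyV =>
        absurd (specializes_iff_mem_closure.1 ((hη.specializes hy).map f.continuous)) hyV⟩
      exact (hfη.antisymm (specializes_iff_mem_closure.2 h)).eq.symm
  choose V hV1 hV2 hV3 using hV
  have : Finite F := hF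
  obtain ⟨x, ⟨y, rfl, hy⟩, hxV, hξx⟩ := exists_mem_specializes_of_maximal hξ hmax
    (isOpen_iInter_of_finite hV1) (Set.mem_iInter.2 hV2)
  have hyF : y ∈ ⋃₀ F := hFY.2.2 ▸ (specializes_iff_mem_closure.1 hξx :)
  obtain ⟨Z, hZ, hyZ⟩ := hyF
  have := hV3 ⟨Z, hZ⟩ y hyZ (Set.mem_iInter.1 hxV _)
  omega

end Groth.Agent.DimLib

namespace Groth.Agent.DimLib

variable {k : Type u} [Field k] {X Y : Scheme.{u}}

theorem fibreDimGE_eq (p : X ⟶ Spec (.of k)) (f : Y ⟶ X) [LocallyOfFiniteType p]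
    [LocallyOfFiniteType (f ≫ p)] (j : ℕ) :
    {x : X | (j : WithBot ℕ∞) ≤ topologicalKrullDim ↥(f.fiber x)} =
      {x : X | ∃ y, f y = x ∧ ptDim p x + j ≤ ptDim (f ≫ p) y} := by
  ext x
  simp only [Set.mem_setOf_eq, topologicalKrullDim_fiber_eq_preimage, le_topologicalKrullDim_fiber_iff p]

theorem dim_le_iff_fibreDimGE (p : X ⟶ Spec (.of k)) (f : Y ⟶ X) [LocallyOfFiniteType p] [CompactSpace X]
    [LocallyOfFiniteType (f ≫ p)] [QuasiCompact (f ≫ p)] (n : ℕ) :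
    topologicalKrullDim Y ≤ n ↔ ∀ j : ℕ, topologicalKrullDim
      ↥(closure {x : X | ∃ y, f y = x ∧ ptDim p x + j ≤ ptDim (f ≫ p) y}) + (j : WithBot ℕ∞) ≤ n := by
  have h0 : topologicalKrullDim Y ≤ n ↔ ∀ y, ptDim (f ≫ p) y ≤ n := by
    simpa using dim_add_le_iff (f ≫ p) 0 n
  rw [h0]
  simp only [dim_closed_add_le_iff p isClosed_closure]
  refine ⟨fun h j x hx => ptDim_add_le_of_closure p f j n h hx, fun h y => ?_⟩
  obtain ⟨j, hj⟩ := Nat.exists_eq_add_of_le (ptDim_apply_le p f y)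
  rw [hj]
  exact h j (f y) (subset_closure ⟨y, rfl, hj.ge⟩)

end Groth.Agent.DimLib
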