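import Groth.Agent.DimLib.Sub
import Groth.Agent.ProjLib.GenDegOne
import Groth.Prelude.Def_CohB1
import Mathlib.RingTheory.MvPolynomial.Homogeneous
import Mathlib.RingTheory.MvPolynomial.Ideal

/-! Projective space over a field: dimension via homogeneous primes. -/

universe u

open CategoryTheory AlgebraicGeometry MvPolynomial

namespace Groth.Agent.DimLib.PN

variable (n : ℕ) (k : Type u) [Field k]

local notation "S" => MvPolynomial (Fin (n + 1)) k
local notation "𝒜" => CohB1.polyGrading n k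

/-- the irrelevant maximal ideal -/
noncomputable abbrev m0 : Ideal S := RingHom.ker (constantCoeff : S →+* k)

theorem finiteType_toSpec : LocallyOfFiniteType (CohB1.ProjSpace.toSpec n k) ∧
    QuasiCompact (CohB1.ProjSpace.toSpec n k) := by
  classical
  refine ProjLib.proj_finiteType_of_gen_degree_one ?_ (algebraMap k (𝒜 0))
    (Finset.univ.image (X : Fin (n + 1) → S)) ?_ ?_ (CommRingCat.ofHom (algebraMap k (𝒜 0))) rfl
  · rw [eq_top_iff]
    intro p hp0
    clear hp0
    induction p using MvPolynomial.induction_on with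
    | C a => exact Subring.subset_closure (Or.inl (isHomogeneous_C _ a))
    | add p q hp hq => exact add_mem hp hq
    | mul_X p i hp => exact mul_mem hp (Subring.subset_closure (Or.inr (isHomogeneous_X k i)))
  · intro t ht
    obtain ⟨i, -, rfl⟩ := Finset.mem_image.1 ht
    exact isHomogeneous_X k i
  · intro x hx
    have hx' : x ∈ homogeneousSubmodule (Fin (n + 1)) k 1 := hx
    rw [homogeneousSubmodule_one_eq_span_X, Submodule.mem_span_range_iff_exists_fun] at hx'
    obtain ⟨c, rfl⟩ := hx'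
    refine ⟨fun t => ∑ i with (X i : S) = t, c i, ?_⟩
    rw [Finset.sum_image (fun i _ j _ h => X_injective h)]
    refine Finset.sum_congr rfl fun i _ => ?_
    dsimp only
    rw [show (Finset.univ.filter fun j => (X j : S) = X i) = {i} by
      ext j; simp [(X_injective (σ := Fin (n + 1)) (R := k)).eq_iff], Finset.sum_singleton, smul_eq_C_mul]
    rfl

instance : LocallyOfFiniteType (CohB1.ProjSpace.toSpec n k) := (finiteType_toSpec n k).1

instance : QuasiCompact (CohB1.ProjSpace.toSpec n k) := (finiteType_toSpec n k).2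

variable {n k}

theorem le_m0 {p : Ideal S} (hp : p.IsPrime) (hh : p.IsHomogeneous 𝒜) : p ≤ m0 n k := by
  intro x hx
  by_contra hc
  have h0 : homogeneousComponent 0 x ∈ p := homogeneousComponent_mem_of_mem hh hx 0
  rw [homogeneousComponent_zero] at h0
  exact hp.ne_top (Ideal.eq_top_of_isUnit_mem _ h0 ((Ne.isUnit (show coeff 0 x ≠ 0 from hc)).map C))

theorem X_mem_m0 (i : Fin (n + 1)) : (X i : S) ∈ m0 n k := by
  rw [RingHom.mem_ker, constantCoeff_X]

theorem mem_m0_of_homogeneous {f : S} {d : ℕ} (hf : f.IsHomogeneous d) (hd : 0 < d) : f ∈ m0 n k :=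
  hf.coeff_eq_zero (d := 0) (by simpa using hd.ne)

theorem m0_isPrime : (m0 n k).IsPrime := RingHom.ker_isPrime _

theorem m0_le_span_X : m0 n k ≤ Ideal.span (Set.range (X : Fin (n + 1) → S)) := by
  intro x hx
  rw [← Set.image_univ, mem_ideal_span_X_image]
  intro m hm
  by_contra! h
  refine mem_support_iff.1 hm ?_
  rw [show m = 0 from Finsupp.ext fun i => h i trivial]
  exact hx

theorem exists_X_notMem {p : Ideal S} (hp : p.IsPrime) (hh : p.IsHomogeneous 𝒜) (hne : p ≠ m0 n k) :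
    ∃ i, (X i : S) ∉ p := by
  by_contra! h
  exact hne (le_antisymm (le_m0 hp hh) (m0_le_span_X.trans (Ideal.span_le.2 (by rintro _ ⟨i, rfl⟩; exact h i))))

theorem irrelevant_le_m0 : (HomogeneousIdeal.irrelevant 𝒜).toIdeal ≤ m0 n k :=
  (HomogeneousIdeal.toIdeal_irrelevant_le _).2 fun _ hi _ hp =>
    mem_m0_of_homogeneous hp hi

theorem m0_le_irrelevant : m0 n k ≤ (HomogeneousIdeal.irrelevant 𝒜).toIdeal := by
  refine m0_le_span_X.trans (Ideal.span_le.2 ?_)
  rintro _ ⟨i, rfl⟩
  exact HomogeneousIdeal.mem_irrelevant_of_mem 𝒜 one_pos (isHomogeneous_X k i)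

theorem ne_m0 (x : ProjectiveSpectrum 𝒜) : x.asHomogeneousIdeal.toIdeal ≠ m0 n k := fun e =>
  x.not_irrelevant_le fun a ha => show a ∈ x.asHomogeneousIdeal.toIdeal by rw [e]; exact irrelevant_le_m0 ha

theorem exists_point {p : Ideal S} (hp : p.IsPrime) (hh : p.IsHomogeneous 𝒜) (hne : p ≠ m0 n k) :
    ∃ x : ProjectiveSpectrum 𝒜, x.asHomogeneousIdeal.toIdeal = p :=
  ⟨⟨⟨p, hh⟩, hp, fun h => hne (le_antisymm (le_m0 hp hh) (m0_le_irrelevant.trans h))⟩, rfl⟩

/-- Minimal primes of homogeneous ideals are homogeneous. -/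
theorem isHomogeneous_of_mem_minimalPrimes {I Q : Ideal S} (hI : I.IsHomogeneous 𝒜) (hQ : Q ∈ I.minimalPrimes) :
    Q.IsHomogeneous 𝒜 := by
  have h1 : (Q.homogeneousCore 𝒜).toIdeal.IsPrime := hQ.1.1.homogeneousCore
  have h2 : I ≤ (Q.homogeneousCore 𝒜).toIdeal := by
    have := Ideal.homogeneousCore_mono 𝒜 hQ.1.2
    rw [← hI.toIdeal_homogeneousCore_eq_self]
    exact this
  rw [le_antisymm (hQ.2 ⟨h1, h2⟩ (Q.toIdeal_homogeneousCore_le 𝒜)) (Q.toIdeal_homogeneousCore_le 𝒜)]
  exact (Q.homogeneousCore 𝒜).isHomogeneous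

theorem span_isHomogeneous {E : Set S} (hE : ∀ e ∈ E, ∃ d, e.IsHomogeneous d) :
    (Ideal.span E).IsHomogeneous 𝒜 :=
  Ideal.homogeneous_span 𝒜 E fun e he => hE e he

/-- `dim S/p` -/
noncomputable def cdim (p : Ideal S) : ℕ := (Algebra.trdeg k (S ⧸ p)).toNat

theorem cdim_eq {p : Ideal S} (hp : p.IsPrime) : ringKrullDim (S ⧸ p) = (cdim p : WithBot ℕ∞) :=
  ringKrullDim_eq_trdeg

theorem quotient_data {p q : Ideal S} (hp : p.IsPrime) (hq : q.IsPrime) (hle : p ≤ q) :
    ∃ t : ℕ, ((q.map (Ideal.Quotient.mk p)).height = t) ∧ t + cdim q = cdim p ∧ (p ≠ q → 0 < t) := by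
  have hq' : (q.map (Ideal.Quotient.mk p)).IsPrime :=
    Ideal.map_isPrime_of_surjective Ideal.Quotient.mk_surjective (by rw [Ideal.mk_ker]; exact hle)
  have h1 := height_add_ringKrullDim_quotient (k := k) (A := S ⧸ p) (q.map (Ideal.Quotient.mk p))
  rw [ringKrullDim_eq_of_ringEquiv (DoubleQuot.quotQuotEquivQuotOfLE hle), cdim_eq hp, cdim_eq hq] at h1
  have hne : (q.map (Ideal.Quotient.mk p)).height ≠ ⊤ := by
    intro e
    rw [e] at h1
    norm_cast at h1
  obtain ⟨t, ht⟩ := ENat.ne_top_iff_exists.1 hne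
  refine ⟨t, ht.symm, ?_, fun hpq => Nat.pos_of_ne_zero fun h0 => ?_⟩
  · rw [← ht] at h1; exact_mod_cast h1
  · have h2 : (q.map (Ideal.Quotient.mk p)).height = 0 := by rw [← ht, h0]; rfl
    rw [Ideal.height_eq_zero_iff_eq_bot, Ideal.map_eq_bot_iff_le_ker, Ideal.mk_ker] at h2
    exact hpq (le_antisymm hle h2)

theorem cdim_lt {p q : Ideal S} (hp : p.IsPrime) (hq : q.IsPrime) (hle : p ≤ q) (hne : p ≠ q) :
    cdim q < cdim p := by
  obtain ⟨t, -, h, ht⟩ := quotient_data hp hq hle
  have := ht hne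
  omega

theorem cdim_le {p q : Ideal S} (hp : p.IsPrime) (hq : q.IsPrime) (hle : p ≤ q) : cdim q ≤ cdim p := by
  obtain ⟨t, -, h, -⟩ := quotient_data hp hq hle
  omega

/-- Krull: `r` elements lower `cdim` by at most `r`. -/
theorem cdim_le_add {p Q : Ideal S} (hp : p.IsPrime) (E : Finset S) (hQ : Q ∈ (p ⊔ Ideal.span (E : Set S)).minimalPrimes) :
    cdim p ≤ cdim Q + E.card := by
  classical
  have hQi : Q.IsPrime := hQ.1.1
  have hle : p ≤ Q := le_sup_left.trans hQ.1.2
  have hQ' : (Q.map (Ideal.Quotient.mk p)).IsPrime :=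
    Ideal.map_isPrime_of_surjective Ideal.Quotient.mk_surjective (by rw [Ideal.mk_ker]; exact hle)
  have hc : (Q.map (Ideal.Quotient.mk p)).comap (Ideal.Quotient.mk p) = Q := by
    rw [Ideal.comap_map_of_surjective _ Ideal.Quotient.mk_surjective, ← RingHom.ker_eq_comap_bot,
      Ideal.mk_ker, sup_eq_left.2 hle]
  obtain ⟨t, ht, h, -⟩ := quotient_data hp hQi hle
  have hmin : Q.map (Ideal.Quotient.mk p) ∈
      (Ideal.span ((E.image (Ideal.Quotient.mk p) : Finset (S ⧸ p)) : Set (S ⧸ p))).minimalPrimes := by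
    have hmap : Ideal.span ((E.image (Ideal.Quotient.mk p) : Finset (S ⧸ p)) : Set (S ⧸ p)) =
        (Ideal.span (E : Set S)).map (Ideal.Quotient.mk p) := by
      rw [Ideal.map_span, Finset.coe_image]
    rw [hmap]
    refine ⟨⟨hQ', Ideal.map_mono (le_sup_right.trans hQ.1.2)⟩, fun J hJ hJle => ?_⟩
    have h1 : p ⊔ Ideal.span (E : Set S) ≤ J.comap (Ideal.Quotient.mk p) :=
      sup_le ((Ideal.mk_ker (I := p)).ge.trans (Ideal.ker_le_comap _)) (Ideal.map_le_iff_le_comap.1 hJ.2)
    have h2 := hQ.2 ⟨hJ.1.comap _, h1⟩ (hc ▸ Ideal.comap_mono hJle)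
    exact Ideal.map_le_of_le_comap h2
  have h3 := Ideal.height_le_card_of_mem_minimalPrimes_span_finset hmin
  rw [ht] at h3
  have h4 : t ≤ (E.image (Ideal.Quotient.mk p)).card := by exact_mod_cast h3
  have h5 := Finset.card_image_le (s := E) (f := Ideal.Quotient.mk p)
  omega

theorem cdim_m0 : cdim (m0 n k) = 0 := by
  have h := cdim_eq (m0_isPrime (n := n) (k := k))
  rw [ringKrullDim_eq_of_ringEquiv (RingHom.quotientKerEquivOfSurjective
    (f := (constantCoeff : S →+* k)) (fun a => ⟨C a, constantCoeff_C _ a⟩)), ringKrullDim_eq_zero_of_field] at h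
  exact_mod_cast h.symm

theorem cdim_pos {p : Ideal S} (hp : p.IsPrime) (hh : p.IsHomogeneous 𝒜) (hne : p ≠ m0 n k) : 0 < cdim p := by
  have := cdim_lt hp m0_isPrime (le_m0 hp hh) hne
  omega

theorem exists_step {p : Ideal S} (hp : p.IsPrime) (hh : p.IsHomogeneous 𝒜) (hne : p ≠ m0 n k) :
    ∃ q : Ideal S, q.IsPrime ∧ q.IsHomogeneous 𝒜 ∧ p ≤ q ∧ cdim p = cdim q + 1 := by
  classical
  obtain ⟨i, hi⟩ := exists_X_notMem hp hh hne
  have : (m0 n k).IsPrime := m0_isPrime
  obtain ⟨q, hq, -⟩ := Ideal.exists_minimalPrimes_le (I := p ⊔ Ideal.span (({X i} : Finset S) : Set S)) (J := m0 n k)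
    (sup_le (le_m0 hp hh) (Ideal.span_le.2 (by simpa using X_mem_m0 i)))
  have hle : p ≤ q := le_sup_left.trans hq.1.2
  have h1 := cdim_le_add hp {X i} hq
  have hne' : p ≠ q := fun e => hi (e ▸ hq.1.2 (Ideal.mem_sup_right (Ideal.subset_span (by simp))))
  have h2 := cdim_lt hp hq.1.1 hle hne'
  refine ⟨q, hq.1.1, isHomogeneous_of_mem_minimalPrimes ?_ hq, hle, ?_⟩
  · refine hh.sup (span_isHomogeneous fun e he => ⟨1, ?_⟩)
    rw [Finset.coe_singleton, Set.mem_singleton_iff] at he
    rw [he]; exact isHomogeneous_X k i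
  · rw [Finset.card_singleton] at h1; omega

theorem specializes_iff (x y : ProjectiveSpectrum 𝒜) :
    x ⤳ y ↔ x.asHomogeneousIdeal.toIdeal ≤ y.asHomogeneousIdeal.toIdeal := by
  rw [specializes_iff_mem_closure, ← ProjectiveSpectrum.le_iff_mem_closure]
  rfl

/-- The point of `P^n` given by a relevant homogeneous prime. -/
noncomputable abbrev pt (x : ProjectiveSpectrum 𝒜) : ↥(CohB1.ProjSpace n k) := x

theorem ptDim_add_one (x : ProjectiveSpectrum 𝒜) :
    ptDim (CohB1.ProjSpace.toSpec n k) (pt x) + 1 = cdim x.asHomogeneousIdeal.toIdeal := by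
  classical
  have lower : ∀ (c : ℕ) (x : ProjectiveSpectrum 𝒜), cdim x.asHomogeneousIdeal.toIdeal = c →
      c ≤ ptDim (CohB1.ProjSpace.toSpec n k) (pt x) + 1 := by
    intro c
    induction c using Nat.strong_induction_on with
    | _ c ih =>
      intro x hx
      obtain ⟨q, hq, hqh, hle, hc⟩ := exists_step x.isPrime x.asHomogeneousIdeal.isHomogeneous (ne_m0 x)
      by_cases hqm : q = m0 n k
      · rw [hqm, cdim_m0] at hc; omega
      obtain ⟨y, rfl⟩ := exists_point hq hqh hqm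
      have h1 := ih _ (by omega) y rfl
      have h2 := ptDim_lt_of_specializes (CohB1.ProjSpace.toSpec n k) ((specializes_iff x y).2 hle :)
        (fun e => by
          have e' : x = y := e
          rw [e'] at hc; omega)
      simp only [pt] at *
      omega
  refine le_antisymm ?_ (lower _ x rfl)
  have upper : ∀ (m : ℕ) (z : ProjectiveSpectrum 𝒜), x ⤳ z →
      ptDim (CohB1.ProjSpace.toSpec n k) (pt x) = ptDim (CohB1.ProjSpace.toSpec n k) (pt z) + m →
      cdim z.asHomogeneousIdeal.toIdeal + m ≤ cdim x.asHomogeneousIdeal.toIdeal := by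
    intro m
    induction m with
    | zero => exact fun z hz _ => cdim_le x.isPrime z.isPrime ((specializes_iff x z).1 hz)
    | succ m ih =>
      intro z hz he
      have hne : pt x ≠ pt z := fun e => by rw [e] at he; omega
      obtain ⟨y, h1, h2, h3⟩ := exists_specializes_ptDim_succ (CohB1.ProjSpace.toSpec n k) (hz :) hne
      have h4 := ih y h1 (by simp only [pt] at *; omega)
      have h5 := cdim_lt (p := (show ProjectiveSpectrum 𝒜 from y).asHomogeneousIdeal.toIdeal)
        (show ProjectiveSpectrum 𝒜 from y).isPrime z.isPrime ((specializes_iff _ _).1 h2) (fun e => by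
          have : (show ProjectiveSpectrum 𝒜 from y) = z :=
            ProjectiveSpectrum.ext (HomogeneousIdeal.toIdeal_injective e)
          have h3' : ptDim (CohB1.ProjSpace.toSpec n k) (pt z) = ptDim (CohB1.ProjSpace.toSpec n k) (pt z) + 1 := by
            conv_lhs => rw [← this]
            exact h3
          simp only [pt] at *
          omega)
      simp only [pt] at *
      omega
  obtain ⟨z, hz, hzc⟩ := exists_isClosed_singleton_mem (CohB1.ProjSpace.toSpec n k)
    (⟨pt x, subset_closure rfl⟩ : (closure {pt x}).Nonempty) isClosed_closure.isLocallyClosed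
  have h0 := (ptDim_eq_zero_iff (CohB1.ProjSpace.toSpec n k) z).2 hzc
  have h1 := upper (ptDim (CohB1.ProjSpace.toSpec n k) (pt x)) z (specializes_iff_mem_closure.2 hz :)
    (by simp only [pt] at *; omega)
  have h2 := cdim_pos (show ProjectiveSpectrum 𝒜 from z).isPrime
    (show ProjectiveSpectrum 𝒜 from z).asHomogeneousIdeal.isHomogeneous (ne_m0 _)
  simp only [pt] at *
  omega

/-- For a maximal point of `closure {x} ∩ V(E)`, its ideal is a minimal prime over `x + (E)`. -/
theorem mem_minimalPrimes_of_maximal (x z : ProjectiveSpectrum 𝒜) (E : Set S)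
    (hE : ∀ e ∈ E, ∃ d, e.IsHomogeneous d) (hxz : x ⤳ z) (hz : z ∈ ProjectiveSpectrum.zeroLocus 𝒜 E)
    (hmax : ∀ w, x ⤳ w → w ∈ ProjectiveSpectrum.zeroLocus 𝒜 E → w ⤳ z → z = w) :
    z.asHomogeneousIdeal.toIdeal ∈ (x.asHomogeneousIdeal.toIdeal ⊔ Ideal.span E).minimalPrimes := by
  have hle : x.asHomogeneousIdeal.toIdeal ⊔ Ideal.span E ≤ z.asHomogeneousIdeal.toIdeal :=
    sup_le ((specializes_iff x z).1 hxz) (Ideal.span_le.2 hz)
  have := z.isPrime
  obtain ⟨Q, hQ, hQz⟩ := Ideal.exists_minimalPrimes_le hle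
  have hQh := isHomogeneous_of_mem_minimalPrimes (x.asHomogeneousIdeal.isHomogeneous.sup (span_isHomogeneous hE)) hQ
  obtain ⟨w, rfl⟩ := exists_point hQ.1.1 hQh (fun e => ne_m0 z (le_antisymm
    (le_m0 z.isPrime z.asHomogeneousIdeal.isHomogeneous) (e ▸ hQz)))
  rw [hmax w ((specializes_iff x w).2 (le_sup_left.trans hQ.1.2))
    (fun e he => hQ.1.2 (Ideal.mem_sup_right (Ideal.subset_span he))) ((specializes_iff w z).2 hQz)]
  exact hQ

/-- Nonemptiness: `r` forms of positive degree meet every subvariety of dimension `≥ r`. -/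
theorem exists_mem_zeroLocus (x : ProjectiveSpectrum 𝒜) (E : Finset S)
    (hE : ∀ e ∈ E, ∃ d, 0 < d ∧ e.IsHomogeneous d) (h : E.card < cdim x.asHomogeneousIdeal.toIdeal) :
    ∃ z, x ⤳ z ∧ z ∈ ProjectiveSpectrum.zeroLocus 𝒜 (E : Set S) := by
  have : (m0 n k).IsPrime := m0_isPrime
  obtain ⟨Q, hQ, -⟩ := Ideal.exists_minimalPrimes_le
    (I := x.asHomogeneousIdeal.toIdeal ⊔ Ideal.span (E : Set S)) (J := m0 n k)
    (sup_le (le_m0 x.isPrime x.asHomogeneousIdeal.isHomogeneous) (Ideal.span_le.2 fun e he => by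
      obtain ⟨d, hd, hde⟩ := hE e he
      exact mem_m0_of_homogeneous hde hd))
  have h1 := cdim_le_add x.isPrime E hQ
  have hQh := isHomogeneous_of_mem_minimalPrimes (x.asHomogeneousIdeal.isHomogeneous.sup
    (span_isHomogeneous fun e he => (hE e he).imp fun _ h => h.2)) hQ
  obtain ⟨w, rfl⟩ := exists_point hQ.1.1 hQh (fun e => by rw [e, cdim_m0] at h1; omega)
  exact ⟨w, (specializes_iff x w).2 (le_sup_left.trans hQ.1.2),
    fun e he => hQ.1.2 (Ideal.mem_sup_right (Ideal.subset_span he))⟩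

end Groth.Agent.DimLib.PN
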