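import Groth.Agent.DimLib.Algebra
import Mathlib.RingTheory.TensorProduct.MvPolynomial
import Mathlib.RingTheory.Ideal.MinimalPrime.Localization
import Mathlib.RingTheory.Flat.Basic
import Mathlib.RingTheory.KrullDimension.Polynomial
import Mathlib.LinearAlgebra.LinearIndependent.Lemmas

/-! Dimension of the components of a tensor product of domains of finite type over a field. -/

universe u v

open TensorProduct

namespace Groth.Agent.DimLib

/-- A finite torsion-free module over a domain embeds in a finite free module. -/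
theorem exists_injective_pi (R : Type*) [CommRing R] [IsDomain R] (M : Type*) [AddCommGroup M] [Module R M]
    [Module.Finite R M] [Module.IsTorsionFree R M] :
    ∃ (r : ℕ) (ι : M →ₗ[R] Fin r → R), Function.Injective ι := by
  classical
  obtain ⟨n, v, hv⟩ := Module.Finite.exists_fin (R := R) (M := M)
  obtain ⟨s, hs, hmax⟩ := exists_maximal_linearIndepOn R v
  have hc : ∀ i, ∃ a : R, a ≠ 0 ∧ a • v i ∈ Submodule.span R (Set.range fun j : s => v j.1) := fun i => by
    rw [show (Set.range fun j : s => v j.1) = v '' s from (Set.image_eq_range v s).symm]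
    by_cases hi : i ∈ s
    · exact ⟨1, one_ne_zero, by rw [one_smul]; exact Submodule.subset_span ⟨i, hi, rfl⟩⟩
    · exact hmax i hi
  choose a ha ha' using hc
  let c : R := ∏ i, a i
  have hc0 : c ≠ 0 := Finset.prod_ne_zero_iff.2 fun i _ => ha i
  let N := Submodule.span R (Set.range fun j : s => v j.1)
  have hmem : ∀ m : M, c • m ∈ N := by
    intro m
    have hle : Submodule.span R (Set.range v) ≤ N.comap (LinearMap.lsmul R M c) := by
      rw [Submodule.span_le]
      rintro _ ⟨i, rfl⟩
      show c • v i ∈ N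
      simp only [c, ← Finset.prod_erase_mul Finset.univ a (Finset.mem_univ i), mul_smul]
      exact N.smul_mem _ (ha' i)
    exact hle (by rw [hv]; trivial)
  let φ : M →ₗ[R] N := (LinearMap.lsmul R M c).codRestrict N hmem
  have hφ : Function.Injective φ := fun x y h => smul_right_injective M hc0 (congrArg Subtype.val h)
  let b := Module.Basis.span hs
  let e : N ≃ₗ[R] (Fin (Fintype.card s) → R) := (b.reindex (Fintype.equivFin s)).equivFun
  exact ⟨_, e.toLinearMap ∘ₗ φ, e.injective.comp hφ⟩

section Main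

variable (k R₁ R₂ A B : Type*) [Field k] [CommRing R₁] [CommRing R₂] [CommRing A] [CommRing B]
  [IsDomain R₁] [IsDomain R₂] [IsDomain A] [IsDomain B]
  [Algebra k R₁] [Algebra k R₂] [Algebra k A] [Algebra k B]
  [Algebra R₁ A] [Algebra R₂ B] [IsScalarTower k R₁ A] [IsScalarTower k R₂ B]

/-- the map `R₁ ⊗ R₂ → A ⊗ B` -/
noncomputable def tensorBase : R₁ ⊗[k] R₂ →ₐ[k] A ⊗[k] B :=
  Algebra.TensorProduct.map (IsScalarTower.toAlgHom k R₁ A) (IsScalarTower.toAlgHom k R₂ B)

theorem tensorBase_regular [Module.Finite R₁ A] [Module.Finite R₂ B]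
    [Module.IsTorsionFree R₁ A] [Module.IsTorsionFree R₂ B] [IsDomain (R₁ ⊗[k] R₂)]
    {f : R₁ ⊗[k] R₂} (hf : f ≠ 0) {s : A ⊗[k] B} (h : tensorBase k R₁ R₂ A B f * s = 0) : s = 0 := by
  classical
  obtain ⟨r, ι₁, h1⟩ := exists_injective_pi R₁ A
  obtain ⟨m, ι₂, h2⟩ := exists_injective_pi R₂ B
  let c : Fin r → Fin m → A ⊗[k] B →ₗ[k] R₁ ⊗[k] R₂ := fun i j =>
    TensorProduct.map ((LinearMap.proj i ∘ₗ ι₁).restrictScalars k) ((LinearMap.proj j ∘ₗ ι₂).restrictScalars k)
  have hlin : ∀ i j (g : R₁ ⊗[k] R₂) (t : A ⊗[k] B), c i j (tensorBase k R₁ R₂ A B g * t) = g * c i j t := by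
    intro i j g t
    induction g using TensorProduct.induction_on with
    | zero => simp
    | add g g' hg hg' => simp [add_mul, hg, hg']
    | tmul x y =>
      induction t using TensorProduct.induction_on with
      | zero => simp
      | add t t' ht ht' => simp [mul_add, ht, ht']
      | tmul a b => simp [c, tensorBase, Algebra.TensorProduct.tmul_mul_tmul, ← Algebra.smul_def]
  have hs : ∀ i j, c i j s = 0 := fun i j => by
    have := hlin i j f s
    rw [h, map_zero] at this
    exact (mul_eq_zero.1 this.symm).resolve_left hf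
  apply TensorProduct.map_injective_of_flat_flat (ι₁.restrictScalars k) (ι₂.restrictScalars k) h1 h2
  rw [map_zero]
  have key : ∀ t : A ⊗[k] B, TensorProduct.map (ι₁.restrictScalars k) (ι₂.restrictScalars k) t =
      ∑ i, ∑ j, TensorProduct.map ((LinearMap.single R₁ (fun _ : Fin r => R₁) i).restrictScalars k)
        ((LinearMap.single R₂ (fun _ : Fin m => R₂) j).restrictScalars k) (c i j t) := by
    intro t
    induction t using TensorProduct.induction_on with
    | zero => simp
    | add t t' ht ht' => simp [ht, ht', Finset.sum_add_distrib]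
    | tmul a b =>
      simp only [c, TensorProduct.map_tmul, LinearMap.restrictScalars_apply, LinearMap.comp_apply,
        LinearMap.proj_apply, ← TensorProduct.tmul_sum, ← TensorProduct.sum_tmul]
      congr 1 <;> exact (Finset.univ_sum_single _).symm
  rw [key]
  simp [hs]

theorem tensorBase_isIntegral [Module.Finite R₁ A] [Module.Finite R₂ B] :
    (tensorBase k R₁ R₂ A B).toRingHom.IsIntegral := by
  intro t
  induction t using TensorProduct.induction_on with
  | zero => exact RingHom.isIntegralElem_zero _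
  | add x y hx hy => exact RingHom.IsIntegralElem.add _ hx hy
  | tmul a b =>
    rw [show a ⊗ₜ[k] b = (a ⊗ₜ 1 : A ⊗[k] B) * (1 ⊗ₜ b) by simp]
    refine RingHom.IsIntegralElem.mul _ ?_ ?_
    · obtain ⟨p, hp, he⟩ := Algebra.IsIntegral.isIntegral (R := R₁) a
      refine ⟨p.map (Algebra.TensorProduct.includeLeftRingHom), hp.map _, ?_⟩
      rw [Polynomial.eval₂_map]
      have e : (tensorBase k R₁ R₂ A B).toRingHom.comp Algebra.TensorProduct.includeLeftRingHom =
          (Algebra.TensorProduct.includeLeftRingHom : A →+* A ⊗[k] B).comp (algebraMap R₁ A) := by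
        ext x; simp [tensorBase]
      rw [e, show a ⊗ₜ[k] (1 : B) = (Algebra.TensorProduct.includeLeftRingHom : A →+* A ⊗[k] B) a from rfl,
        ← Polynomial.hom_eval₂, he, map_zero]
    · obtain ⟨p, hp, he⟩ := Algebra.IsIntegral.isIntegral (R := R₂) b
      refine ⟨p.map (Algebra.TensorProduct.includeRight (A := R₁)).toRingHom, hp.map _, ?_⟩
      rw [Polynomial.eval₂_map]
      have e : (tensorBase k R₁ R₂ A B).toRingHom.comp (Algebra.TensorProduct.includeRight (A := R₁)).toRingHom =
          (Algebra.TensorProduct.includeRight (A := A)).toRingHom.comp (algebraMap R₂ B) := by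
        ext x; simp [tensorBase]
      rw [e, show (1 : A) ⊗ₜ[k] b = (Algebra.TensorProduct.includeRight (A := A)).toRingHom b from rfl,
        ← Polynomial.hom_eval₂, he, map_zero]

theorem ringKrullDim_quotient_minimalPrime [Module.Finite R₁ A] [Module.Finite R₂ B]
    [Module.IsTorsionFree R₁ A] [Module.IsTorsionFree R₂ B] [IsDomain (R₁ ⊗[k] R₂)]
    {Q : Ideal (A ⊗[k] B)} (hQ : Q ∈ minimalPrimes (A ⊗[k] B)) :
    ringKrullDim ((A ⊗[k] B) ⧸ Q) = ringKrullDim (R₁ ⊗[k] R₂) := by
  have hint := tensorBase_isIntegral k R₁ R₂ A B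
  let ψ := (Ideal.Quotient.mk Q).comp (tensorBase k R₁ R₂ A B).toRingHom
  letI := ψ.toAlgebra
  haveI : Algebra.IsIntegral (R₁ ⊗[k] R₂) ((A ⊗[k] B) ⧸ Q) :=
    ⟨RingHom.IsIntegral.trans _ _ hint (RingHom.isIntegral_of_surjective _ Ideal.Quotient.mk_surjective)⟩
  refine (ringKrullDim_eq_of_isIntegral ?_).symm
  change Function.Injective ψ
  rw [injective_iff_map_eq_zero]
  intro f hf
  by_contra hf0
  have hmem : tensorBase k R₁ R₂ A B f ∈ Q := Ideal.Quotient.eq_zero_iff_mem.1 hf
  refine Set.disjoint_left.1 (Ideal.disjoint_nonZeroDivisors_of_mem_minimalPrimes hQ) hmem ?_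
  rw [SetLike.mem_coe, mem_nonZeroDivisors_iff_right]
  intro s hs
  exact tensorBase_regular k R₁ R₂ A B hf0 (by rw [mul_comm]; exact hs)

end Main

section Contract

variable (k A B : Type*) [Field k] [CommRing A] [CommRing B] [IsDomain A] [IsDomain B] [Algebra k A] [Algebra k B]

theorem comap_includeLeft_minimalPrime {Q : Ideal (A ⊗[k] B)} (hQ : Q ∈ minimalPrimes (A ⊗[k] B)) :
    Q.comap (Algebra.TensorProduct.includeLeftRingHom : A →+* A ⊗[k] B) = ⊥ := by
  rw [eq_bot_iff]
  intro a ha
  by_contra ha0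
  refine Set.disjoint_left.1 (Ideal.disjoint_nonZeroDivisors_of_mem_minimalPrimes hQ) ha ?_
  rw [SetLike.mem_coe, mem_nonZeroDivisors_iff_right]
  intro s hs
  have hinj := Module.Flat.rTensor_preserves_injective_linearMap (M := B) (LinearMap.mulLeft k a)
    (mul_right_injective₀ ha0)
  apply hinj
  rw [map_zero, ← hs, mul_comm]
  clear hs
  induction s using TensorProduct.induction_on with
  | zero => simp
  | add x y hx hy => simp [mul_add, hx, hy]
  | tmul x y => simp

theorem comap_includeRight_minimalPrime {Q : Ideal (A ⊗[k] B)} (hQ : Q ∈ minimalPrimes (A ⊗[k] B)) :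
    Q.comap (Algebra.TensorProduct.includeRight : B →ₐ[k] A ⊗[k] B) = ⊥ := by
  rw [eq_bot_iff]
  intro b hb
  by_contra hb0
  refine Set.disjoint_left.1 (Ideal.disjoint_nonZeroDivisors_of_mem_minimalPrimes hQ) hb ?_
  rw [SetLike.mem_coe, mem_nonZeroDivisors_iff_right]
  intro s hs
  have hinj := Module.Flat.lTensor_preserves_injective_linearMap (M := A) (LinearMap.mulLeft k b)
    (mul_right_injective₀ hb0)
  apply hinj
  rw [map_zero, ← hs, mul_comm]
  clear hs
  induction s using TensorProduct.induction_on with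
  | zero => simp
  | add x y hx hy => simp [mul_add, hx, hy]
  | tmul x y => simp

end Contract

end Groth.Agent.DimLib

namespace Groth.Agent.DimLib

section Concrete

variable (k : Type u) [Field k]

/-- `k[T_1, …, T_a] ⊗ C ≃ C[T_1, …, T_a]`. -/
noncomputable def mvPolyTensorEquiv (a : ℕ) (C : Type u) [CommRing C] [Algebra k C] :
    MvPolynomial (Fin a) k ⊗[k] C ≃+* MvPolynomial (Fin a) C :=
  (Algebra.TensorProduct.comm k (MvPolynomial (Fin a) k) C).toRingEquiv.trans
    (MvPolynomial.algebraTensorAlgEquiv (σ := Fin a) k C).toRingEquiv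

theorem isDomain_mvPolyTensor (a : ℕ) (C : Type u) [CommRing C] [IsDomain C] [Algebra k C] :
    IsDomain (MvPolynomial (Fin a) k ⊗[k] C) :=
  MulEquiv.isDomain _ (mvPolyTensorEquiv k a C).toMulEquiv

theorem ringKrullDim_mvPolyTensor (a : ℕ) (C : Type u) [CommRing C] [IsNoetherianRing C] [Algebra k C] :
    ringKrullDim (MvPolynomial (Fin a) k ⊗[k] C) = ringKrullDim C + (a : WithBot ℕ∞) := by
  rw [ringKrullDim_eq_of_ringEquiv (mvPolyTensorEquiv k a C), MvPolynomial.ringKrullDim_of_isNoetherianRing,
    Nat.card_eq_fintype_card, Fintype.card_fin]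

theorem minimalPrime_tensor_field (A K : Type u) [CommRing A] [IsDomain A] [Algebra k A]
    [Algebra.FiniteType k A] [Field K] [Algebra k K] {Q : Ideal (A ⊗[k] K)}
    (hQ : Q ∈ minimalPrimes (A ⊗[k] K)) : ringKrullDim ((A ⊗[k] K) ⧸ Q) = ringKrullDim A := by
  obtain ⟨s, g, hinj, hfin, hdim, -⟩ := exists_normalization (k := k) (A := A)
  let _ : Algebra (MvPolynomial (Fin s) k) A := g.toRingHom.toAlgebra
  have : IsScalarTower k (MvPolynomial (Fin s) k) A := IsScalarTower.of_algebraMap_eq fun x => (g.commutes x).symm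
  have : Module.Finite (MvPolynomial (Fin s) k) A := hfin
  have : Module.IsTorsionFree (MvPolynomial (Fin s) k) A := Module.isTorsionFree_iff_algebraMap_injective.2 hinj
  have := isDomain_mvPolyTensor k s K
  rw [ringKrullDim_quotient_minimalPrime k (MvPolynomial (Fin s) k) K A K hQ,
    ringKrullDim_mvPolyTensor, ringKrullDim_eq_zero_of_field, hdim, zero_add]

theorem minimalPrime_tensor_domain (A B : Type u) [CommRing A] [IsDomain A] [Algebra k A]
    [Algebra.FiniteType k A] [CommRing B] [IsDomain B] [Algebra k B] [Algebra.FiniteType k B]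
    {Q : Ideal (A ⊗[k] B)} (hQ : Q ∈ minimalPrimes (A ⊗[k] B)) :
    ringKrullDim ((A ⊗[k] B) ⧸ Q) = ringKrullDim A + ringKrullDim B := by
  obtain ⟨s, g, hinj, hfin, hdim, -⟩ := exists_normalization (k := k) (A := A)
  obtain ⟨t, g', hinj', hfin', hdim', -⟩ := exists_normalization (k := k) (A := B)
  let _ : Algebra (MvPolynomial (Fin s) k) A := g.toRingHom.toAlgebra
  have : IsScalarTower k (MvPolynomial (Fin s) k) A := IsScalarTower.of_algebraMap_eq fun x => (g.commutes x).symm
  have : Module.Finite (MvPolynomial (Fin s) k) A := hfin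
  have : Module.IsTorsionFree (MvPolynomial (Fin s) k) A := Module.isTorsionFree_iff_algebraMap_injective.2 hinj
  let _ : Algebra (MvPolynomial (Fin t) k) B := g'.toRingHom.toAlgebra
  have : IsScalarTower k (MvPolynomial (Fin t) k) B := IsScalarTower.of_algebraMap_eq fun x => (g'.commutes x).symm
  have : Module.Finite (MvPolynomial (Fin t) k) B := hfin'
  have : Module.IsTorsionFree (MvPolynomial (Fin t) k) B := Module.isTorsionFree_iff_algebraMap_injective.2 hinj'
  have := isDomain_mvPolyTensor k s (MvPolynomial (Fin t) k)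
  rw [ringKrullDim_quotient_minimalPrime k (MvPolynomial (Fin s) k) (MvPolynomial (Fin t) k) A B hQ,
    ringKrullDim_mvPolyTensor, MvPolynomial.ringKrullDim_of_isNoetherianRing, ringKrullDim_eq_zero_of_field,
    hdim, hdim', Nat.card_eq_fintype_card, Fintype.card_fin, zero_add, add_comm]

end Concrete

end Groth.Agent.DimLib
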