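import Groth.Agent.DimLib.ProjDim
import Mathlib.RingTheory.UniqueFactorizationDomain.Ideal
import Mathlib.RingTheory.Polynomial.UniqueFactorization
import Mathlib.Algebra.MvPolynomial.NoZeroDivisors

/-! Hypersurfaces in projective space. -/

universe u

open CategoryTheory AlgebraicGeometry MvPolynomial

namespace Groth.Agent.DimLib.PN

variable {n : ℕ} {k : Type u} [Field k]

local notation "S" => MvPolynomial (Fin (n + 1)) k
local notation "𝒜" => CohB1.polyGrading n k

/-- A prime of `cdim ≥ n` is `⊥` or principal. -/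
theorem exists_prime_span {Q : Ideal S} (hQ : Q.IsPrime) (hne : Q ≠ ⊥) (hc : n ≤ cdim Q) :
    ∃ q : S, Prime q ∧ Q = Ideal.span {q} ∧ cdim Q = n := by
  obtain ⟨q, hqQ, hq⟩ := hQ.exists_mem_prime_of_ne_bot hne
  have hqp : (Ideal.span {q} : Ideal S).IsPrime := (Ideal.span_singleton_prime hq.ne_zero).2 hq
  have h0 : (⊥ : Ideal S) ≠ Ideal.span {q} := fun e => hq.ne_zero (Ideal.span_singleton_eq_bot.1 e.symm)
  have h1 := cdim_lt Ideal.isPrime_bot hqp bot_le h0
  rw [cdim_bot] at h1
  have hle : Ideal.span {q} ≤ Q := (Ideal.span_singleton_le_iff_mem _).2 hqQ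
  have he : Ideal.span {q} = Q := by
    by_contra hne'
    have := cdim_lt hqp hQ hle hne'
    omega
  refine ⟨q, hq, he.symm, ?_⟩
  rw [he] at h1
  omega

/-- A generator of a homogeneous principal ideal is homogeneous. -/
theorem isHomogeneous_generator {q : S} (hq : q ≠ 0) (hh : (Ideal.span ({q} : Set S) : Ideal S).IsHomogeneous 𝒜) :
    q.IsHomogeneous q.totalDegree := by
  suffices h : homogeneousComponent q.totalDegree q = q by
    have h' := homogeneousComponent_isHomogeneous q.totalDegree q
    rwa [h] at h'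
  conv_rhs => rw [← sum_homogeneousComponent q]
  rw [Finset.sum_eq_single q.totalDegree]
  · intro i hi hne
    by_contra h0
    obtain ⟨c, hc⟩ := Ideal.mem_span_singleton.1
      (homogeneousComponent_mem_of_mem hh (Ideal.mem_span_singleton_self q) i)
    have hdeg := congrArg totalDegree hc
    rw [(homogeneousComponent_isHomogeneous i q).totalDegree h0,
      totalDegree_mul_of_isDomain hq (fun e => h0 (by rw [hc, e, mul_zero]))] at hdeg
    have := Finset.mem_range.1 hi
    omega
  · intro h; exact absurd (Finset.mem_range.2 (Nat.lt_succ_self _)) h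

/-- An irreducible form generates a prime of `cdim = n`. -/
theorem cdim_span_prime {q : S} (hq : Prime q) : cdim (Ideal.span {q} : Ideal S) = n := by
  have hqp : (Ideal.span {q} : Ideal S).IsPrime := (Ideal.span_singleton_prime hq.ne_zero).2 hq
  have h0 : (⊥ : Ideal S) ≠ Ideal.span {q} := fun e => hq.ne_zero (Ideal.span_singleton_eq_bot.1 e.symm)
  have h1 := cdim_lt Ideal.isPrime_bot hqp bot_le h0
  have h2 := cdim_le_add (Q := Ideal.span {q}) Ideal.isPrime_bot {q}
    ⟨⟨hqp, by rw [Finset.coe_singleton, bot_sup_eq]⟩, fun J hJ _ => by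
      have := hJ.2; rwa [Finset.coe_singleton, bot_sup_eq] at this⟩
  rw [Finset.card_singleton] at h2
  rw [cdim_bot] at h1 h2
  omega

/-- the generic point of projective space -/
theorem exists_bot_point : ∃ x : ProjectiveSpectrum 𝒜, x.asHomogeneousIdeal.toIdeal = ⊥ :=
  exists_point Ideal.isPrime_bot bot_isHomogeneous bot_ne_m0

/-- A point on a hypersurface lies under a point of `cdim n` of the hypersurface. -/
theorem exists_above {f : S} {d : ℕ} (hf : f.IsHomogeneous d) (z : ProjectiveSpectrum 𝒜)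
    (hz : f ∈ z.asHomogeneousIdeal.toIdeal) :
    ∃ w : ProjectiveSpectrum 𝒜, w ⤳ z ∧ f ∈ w.asHomogeneousIdeal.toIdeal ∧
      n ≤ cdim w.asHomogeneousIdeal.toIdeal := by
  have := z.isPrime
  obtain ⟨Q, hQ, hQz⟩ := Ideal.exists_minimalPrimes_le
    (I := (⊥ : Ideal S) ⊔ Ideal.span (({f} : Finset S) : Set S)) (J := z.asHomogeneousIdeal.toIdeal)
    (sup_le bot_le (Ideal.span_le.2 (by simpa using hz)))
  have h1 := cdim_le_add Ideal.isPrime_bot {f} hQ
  have hQh : Q.IsHomogeneous 𝒜 := by
    refine isHomogeneous_of_mem_minimalPrimes ?_ hQ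
    refine bot_isHomogeneous.sup (span_isHomogeneous fun e he => ⟨d, ?_⟩)
    rw [Finset.coe_singleton, Set.mem_singleton_iff] at he
    rw [he]; exact hf
  obtain ⟨w, rfl⟩ := exists_point hQ.1.1 hQh (fun e => ne_m0 z
    (le_antisymm (le_m0 z.isPrime z.asHomogeneousIdeal.isHomogeneous) (e ▸ hQz)))
  rw [cdim_bot, Finset.card_singleton] at h1
  exact ⟨w, (specializes_iff w z).2 hQz,
    hQ.1.2 (Ideal.mem_sup_right (Ideal.subset_span (by simp))), by omega⟩

end Groth.Agent.DimLib.PN
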