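import Groth.Agent.DimLib.Components
import Mathlib.Analysis.Normed.Field.Basic
import Mathlib.Algebra.MvPolynomial.Funext
import Mathlib.Data.Set.Countable
import Mathlib.RingTheory.Nullstellensatz

/-! Over an uncountable field, countably many proper closed subsets do not cover the closed points. -/

universe u

open CategoryTheory AlgebraicGeometry

namespace Groth.Agent.DimLib

variable {k : Type u} [Field k]

theorem exists_forall_eval_ne_zero [Uncountable k] : ∀ (n : ℕ) {ι : Type} [Countable ι]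
    (f : ι → MvPolynomial (Fin n) k), (∀ i, f i ≠ 0) → ∃ a : Fin n → k, ∀ i, MvPolynomial.eval a (f i) ≠ 0
  | 0, ι, _, f, hf => ⟨0, fun i h => hf i (by
      obtain ⟨c, hc⟩ := MvPolynomial.C_surjective (Fin 0) (f i)
      rw [← hc, MvPolynomial.eval_C] at h
      rw [← hc, h, map_zero])⟩
  | n + 1, ι, _, f, hf => by
    let g : ι → Polynomial (MvPolynomial (Fin n) k) := fun i => MvPolynomial.finSuccEquiv k n (f i)
    have hg : ∀ i, g i ≠ 0 := fun i => by simpa [g] using hf i
    obtain ⟨a, ha⟩ := exists_forall_eval_ne_zero n (fun i => (g i).leadingCoeff) (fun i => by simp [hg i])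
    classical
    let q : ι → Polynomial k := fun i => (g i).map (MvPolynomial.eval a)
    have hq : ∀ i, q i ≠ 0 := fun i h => ha i (by
      have := congrArg (fun r => Polynomial.coeff r (g i).natDegree) h
      simpa [q] using this)
    have hcount : (⋃ i, {t : k | (q i).IsRoot t}).Countable :=
      Set.countable_iUnion fun i => (Polynomial.finite_setOf_isRoot (hq i)).countable
    obtain ⟨t, ht⟩ : ∃ t, t ∉ ⋃ i, {t : k | (q i).IsRoot t} := by
      by_contra! h
      exact Uncountable.not_countable (α := k)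
        (Set.countable_univ_iff.1 (hcount.mono fun t _ => h t))
    refine ⟨Fin.cons t a, fun i h => ht (Set.mem_iUnion.2 ⟨i, ?_⟩)⟩
    rw [MvPolynomial.eval_eq_eval_mv_eval'] at h
    exact h

variable {X : Scheme.{u}}

theorem exists_isClosed_singleton_avoid [Uncountable k] (p : X ⟶ Spec (.of k)) [LocallyOfFiniteType p]
    (η : X) {ι : Type} [Countable ι] (Z : ι → Set X) (hZ : ∀ i, IsClosed (Z i)) (hη : ∀ i, η ∉ Z i) :
    ∃ x, η ⤳ x ∧ IsClosed ({x} : Set X) ∧ ∀ i, x ∉ Z i := by
  obtain ⟨A, φ, j, Q, hj, hφ, e, rfl⟩ := exists_chart p η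
  algebraize [φ]
  let B := A ⧸ Q.asIdeal
  choose I hI using fun i : ι => (PrimeSpectrum.isClosed_iff_zeroLocus_ideal (j ⁻¹' Z i : Set (PrimeSpectrum A))).1 ((hZ i).preimage j.continuous)
  have hb : ∀ i, ∃ b ∈ I i, b ∉ Q.asIdeal := fun i => Set.not_subset.1 (fun h => hη i (((hI i).symm.subset h) : (Q : Spec A) ∈ j ⁻¹' Z i))
  choose b hbI hbQ using hb
  obtain ⟨s, g, hinj, hfin, -, -⟩ := exists_normalization (k := k) (A := B)
  have hfin' : g.toRingHom.Finite := hfin
  algebraize [g.toRingHom]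
  have hh : ∀ i, ∃ h : MvPolynomial (Fin s) k, h ≠ 0 ∧ algebraMap _ B h ∈ Ideal.span {Ideal.Quotient.mk Q.asIdeal (b i)} := fun i => by
    by_contra! hc
    have h0 : Ideal.comap (algebraMap (MvPolynomial (Fin s) k) B) (Ideal.span {Ideal.Quotient.mk Q.asIdeal (b i)}) = ⊥ := by
      refine (Submodule.eq_bot_iff _).2 fun h hmem => ?_
      by_contra hne
      exact hc h hne hmem
    have := Ideal.eq_bot_of_comap_eq_bot (R := MvPolynomial (Fin s) k) h0
    rw [Ideal.span_singleton_eq_bot, Ideal.Quotient.eq_zero_iff_mem] at this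
    exact hbQ i this
  choose h hh0 hhb using hh
  obtain ⟨a, ha⟩ := exists_forall_eval_ne_zero s h hh0
  let M : Ideal (MvPolynomial (Fin s) k) := RingHom.ker (MvPolynomial.eval a)
  have : M.IsMaximal := RingHom.ker_isMaximal_of_surjective _ fun c => ⟨MvPolynomial.C c, MvPolynomial.eval_C c⟩
  obtain ⟨m, hm, hmc⟩ := Ideal.exists_ideal_over_maximal_of_isIntegral (S := B) M (by
    rw [(RingHom.injective_iff_ker_eq_bot (algebraMap (MvPolynomial (Fin s) k) B)).1 hinj]; exact bot_le)
  let P : Spec A := (⟨m.comap (Ideal.Quotient.mk Q.asIdeal), Ideal.IsPrime.comap _⟩ : PrimeSpectrum A)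
  have hQP : Q.asIdeal ≤ P.asIdeal := (Ideal.mk_ker (I := Q.asIdeal)).ge.trans (Ideal.ker_le_comap _)
  refine ⟨j P, ((PrimeSpectrum.le_iff_specializes (Q : PrimeSpectrum A) P).1 hQP).map j.continuous, ?_, fun i hi => ?_⟩
  · have : P.asIdeal.IsMaximal := Ideal.comap_isMaximal_of_surjective _ Ideal.Quotient.mk_surjective
    have h1 := ptDim_chart p φ hφ j e P
    letI := Ideal.Quotient.field P.asIdeal
    rw [ringKrullDim_eq_zero_of_field] at h1
    exact (ptDim_eq_zero_iff p (j P)).1 (by exact_mod_cast h1.symm)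
  · have h1 : (P : PrimeSpectrum A) ∈ PrimeSpectrum.zeroLocus (I i : Set A) := (hI i).subset hi
    have h2 : algebraMap (MvPolynomial (Fin s) k) B (h i) ∈ m :=
      ((Ideal.span_singleton_le_iff_mem _).2 (show Ideal.Quotient.mk Q.asIdeal (b i) ∈ m from h1 (hbI i))) (hhb i)
    rw [← Ideal.mem_comap, hmc] at h2
    exact ha i h2

end Groth.Agent.DimLib
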