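import Groth.Agent.DimLib.Algebra
import Mathlib.RingTheory.Algebraic.Integral

/-! Algebraic fibre dimension theorems for f.g. domains over a field. -/

universe u

namespace Groth.Agent.DimLib

open Ideal

variable {k A B : Type u} [Field k] [CommRing A] [CommRing B] [Algebra k A] [Algebra k B] [Algebra A B]
  [IsScalarTower k A B] [Algebra.FiniteType k A] [Algebra.FiniteType k B] [IsDomain A] [IsDomain B]

include k in
omit [IsScalarTower k A B] in
/-- Lower bound on the dimension of a component of a fibre. -/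
theorem ringKrullDim_add_le_of_minimal (P : Ideal B) [P.IsPrime]
    (hmin : ∀ J : Ideal B, J.IsPrime → (P.under A).map (algebraMap A B) ≤ J → J ≤ P → J = P) :
    ringKrullDim (A ⧸ P.under A) + ringKrullDim B ≤ ringKrullDim A + ringKrullDim (B ⧸ P) := by
  have : IsNoetherianRing B := Algebra.FiniteType.isNoetherianRing k B
  have : IsNoetherianRing A := Algebra.FiniteType.isNoetherianRing k A
  set q := (P.under A).map (algebraMap A B)
  have hq : q ≤ P := Ideal.map_comap_le
  have hprime : (P.map (Ideal.Quotient.mk q)).IsPrime :=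
    Ideal.map_isPrime_of_surjective Ideal.Quotient.mk_surjective (by rwa [Ideal.mk_ker])
  have h0 : (P.map (Ideal.Quotient.mk q)).height = 0 := by
    rw [Ideal.height_eq_zero_iff]
    refine ⟨⟨hprime, bot_le⟩, fun J ⟨hJ, _⟩ hle => ?_⟩
    have e := hmin (J.comap (Ideal.Quotient.mk q)) (hJ.comap _)
      (le_trans (Ideal.mk_ker (I := q)).ge (Ideal.ker_le_comap _)) (by
        refine (Ideal.comap_mono hle).trans ?_
        rw [Ideal.comap_map_of_surjective _ Ideal.Quotient.mk_surjective, ← RingHom.ker_eq_comap_bot, Ideal.mk_ker]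
        exact sup_le le_rfl hq)
    rw [← e, Ideal.map_comap_of_surjective _ Ideal.Quotient.mk_surjective]
  have : P.LiesOver (P.under A) := ⟨rfl⟩
  have h1 := Ideal.height_le_height_add_of_liesOver (P.under A) P
  rw [h0, add_zero] at h1
  rw [← height_add_ringKrullDim_quotient (k := k) P, ← height_add_ringKrullDim_quotient (k := k) (P.under A)]
  have h2 : (P.height : WithBot ℕ∞) ≤ ((P.under A).height : WithBot ℕ∞) := by exact_mod_cast h1
  calc ringKrullDim (A ⧸ P.under A) + ((P.height : WithBot ℕ∞) + ringKrullDim (B ⧸ P))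
      ≤ ringKrullDim (A ⧸ P.under A) + (((P.under A).height : WithBot ℕ∞) + ringKrullDim (B ⧸ P)) := by gcongr
    _ = _ := by ac_rfl

/-- `trdeg_k A + trdeg_A B = trdeg_k B`, as natural numbers. -/
theorem toNat_trdeg_add (h : Function.Injective (algebraMap A B)) :
    (Algebra.trdeg k A).toNat + (Algebra.trdeg A B).toNat = (Algebra.trdeg k B).toNat ∧
      Algebra.trdeg A B < Cardinal.aleph0 := by
  have : FaithfulSMul A B := (faithfulSMul_iff_algebraMap_injective _ _).2 h
  have e := trdeg_add_eq k A (A := B)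
  have hfin : Algebra.trdeg k B < Cardinal.aleph0 := trdeg_lt_aleph0_of_finiteType
  rw [← e] at hfin
  have h1 := lt_of_le_of_lt le_self_add hfin
  have h2 := lt_of_le_of_lt le_add_self hfin
  exact ⟨by rw [← Cardinal.toNat_add h1 h2, e], h2⟩

include k in
/-- Generic upper bound: off a proper closed subset of `Spec B`, residue extensions over `A` have
transcendence degree at most that of `B/A`. -/
theorem exists_ne_zero_ringKrullDim_add_le (h : Function.Injective (algebraMap A B)) :
    ∃ c : B, c ≠ 0 ∧ ∀ P : Ideal B, P.IsPrime → c ∉ P →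
      ringKrullDim (B ⧸ P) + ringKrullDim A ≤ ringKrullDim (A ⧸ P.under A) + ringKrullDim B := by
  classical
  have : FaithfulSMul A B := (faithfulSMul_iff_algebraMap_injective _ _).2 h
  have : Algebra.FiniteType A B := Algebra.FiniteType.of_restrictScalars_finiteType k A B
  obtain ⟨s, hs⟩ := Algebra.FiniteType.out (R := A) (A := B)
  have htop : Algebra.IsAlgebraic (Algebra.adjoin A (s : Set B)) B := by
    refine ⟨fun x => ?_⟩
    exact isAlgebraic_algebraMap (R := Algebra.adjoin A (s : Set B)) (⟨x, hs ▸ trivial⟩ : Algebra.adjoin A (s : Set B))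
  obtain ⟨t, hts, ht⟩ := exists_isTranscendenceBasis_subset (R := A) (s : Set B)
  have halg : ∀ b : B, IsAlgebraic (Algebra.adjoin A t) b := fun b => by
    have := ht.isAlgebraic
    rw [Subtype.range_coe] at this
    exact this.isAlgebraic b
  choose Q hQ0 hQb using halg
  refine ⟨∏ b ∈ s, ((Q b).leadingCoeff : B), Finset.prod_ne_zero_iff.2 fun b _ => by simp [hQ0 b], fun P hP hc => ?_⟩
  have hcb : ∀ b ∈ s, ((Q b).leadingCoeff : B) ∉ P := fun b hb hmem => hc (Ideal.prod_mem P hb hmem)
  let p := P.under A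
  let π : B →ₐ[A] B ⧸ P := Ideal.Quotient.mkₐ A P
  let t' : Set (B ⧸ P) := π '' t
  have hmem : ∀ x ∈ Algebra.adjoin A t, π x ∈ Algebra.adjoin (A ⧸ p) t' := by
    intro x hx
    induction hx using Algebra.adjoin_induction with
    | mem z hz => exact Algebra.subset_adjoin ⟨z, hz, rfl⟩
    | algebraMap r =>
      rw [AlgHom.commutes, IsScalarTower.algebraMap_apply A (A ⧸ p) (B ⧸ P)]
      exact Subalgebra.algebraMap_mem _ _
    | add a b _ _ ha hb => rw [map_add]; exact add_mem ha hb
    | mul a b _ _ ha hb => rw [map_mul]; exact mul_mem ha hb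
  let φ : Algebra.adjoin A t →+* Algebra.adjoin (A ⧸ p) t' :=
    (π.toRingHom.comp (Algebra.adjoin A t).val.toRingHom).codRestrict _ fun x => hmem x.1 x.2
  have hgen : ∀ b ∈ s, IsAlgebraic (Algebra.adjoin (A ⧸ p) t') (π b) := by
    intro b hb
    refine ⟨(Q b).map φ, fun h0 => hcb b hb ?_, ?_⟩
    · have h2 := congrArg (fun r : Polynomial _ => ((r.coeff (Q b).natDegree : Algebra.adjoin (A ⧸ p) t') : B ⧸ P)) h0
      simp only [Polynomial.coeff_map, Polynomial.coeff_zero, ZeroMemClass.coe_zero] at h2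
      exact Ideal.Quotient.eq_zero_iff_mem.1 h2
    · rw [Polynomial.aeval_def, Polynomial.eval₂_map]
      have h3 := congrArg π (hQb b)
      rw [Polynomial.aeval_def, map_zero] at h3
      rw [← h3]
      exact (Polynomial.hom_eval₂ (Q b) (algebraMap _ B) π.toRingHom b).symm
  have hall : Algebra.adjoin (Algebra.adjoin (A ⧸ p) t') (π '' s) = ⊤ := by
    rw [eq_top_iff]
    rintro y -
    obtain ⟨x, rfl⟩ := Ideal.Quotient.mk_surjective y
    have hx : x ∈ Algebra.adjoin A (s : Set B) := hs ▸ trivial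
    induction hx using Algebra.adjoin_induction with
    | mem z hz => exact Algebra.subset_adjoin ⟨z, hz, rfl⟩
    | algebraMap r => exact Subalgebra.algebraMap_mem _ (⟨π (algebraMap A B r), hmem _ (Subalgebra.algebraMap_mem _ r)⟩ : Algebra.adjoin (A ⧸ p) t')
    | add a b _ _ ha hb => rw [map_add]; exact add_mem ha hb
    | mul a b _ _ ha hb => rw [map_mul]; exact mul_mem ha hb
  have : Algebra.IsAlgebraic (Algebra.adjoin (A ⧸ p) t') (B ⧸ P) := by
    refine ⟨fun y => ?_⟩
    have hle : Algebra.adjoin (Algebra.adjoin (A ⧸ p) t') (π '' s) ≤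
        Subalgebra.algebraicClosure (Algebra.adjoin (A ⧸ p) t') (B ⧸ P) := by
      rw [Algebra.adjoin_le_iff]
      rintro _ ⟨b, hb, rfl⟩
      exact hgen b hb
    rw [hall] at hle
    exact hle (Algebra.mem_top (x := y))
  have hb := Algebra.IsAlgebraic.trdeg_le_cardinalMk (R := A ⧸ p) (A := B ⧸ P) t'
  have ht2 : Cardinal.mk t' ≤ Algebra.trdeg A B := by
    rw [← ht.cardinalMk_eq_trdeg]; exact Cardinal.mk_image_le
  obtain ⟨e1, hfin⟩ := toNat_trdeg_add (k := k) h
  obtain ⟨e2, -⟩ := toNat_trdeg_add (k := k) (A := A ⧸ p) (B := B ⧸ P) Ideal.algebraMap_quotient_injective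
  have h4 := Cardinal.toNat_le_toNat (hb.trans ht2) hfin
  rw [ringKrullDim_eq_trdeg (k := k), ringKrullDim_eq_trdeg (k := k), ringKrullDim_eq_trdeg (k := k),
    ringKrullDim_eq_trdeg (k := k)]
  rw [← e1, ← e2]
  exact_mod_cast (by omega : (Algebra.trdeg k (A ⧸ p)).toNat + (Algebra.trdeg (A ⧸ p) (B ⧸ P)).toNat + (Algebra.trdeg k A).toNat ≤ (Algebra.trdeg k (A ⧸ p)).toNat + ((Algebra.trdeg k A).toNat + (Algebra.trdeg A B).toNat))

end Groth.Agent.DimLib
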