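import Groth.Agent.DimLib.Morphism
import Groth.Agent.DimLib.FibreAlg
import Mathlib.Topology.NoetherianSpace

/-! The fibre dimension theorem for schemes of finite type over a field. -/

universe u

open CategoryTheory AlgebraicGeometry

namespace Groth.Agent.DimLib

variable {k : Type u} [Field k] {X Y : Scheme.{u}}

/-- Compatible affine charts for a morphism. -/
theorem exists_chart_morphism (p : X ⟶ Spec (.of k)) (f : Y ⟶ X) [LocallyOfFiniteType p]
    [LocallyOfFiniteType (f ≫ p)] (y : Y) :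
    ∃ (A B : CommRingCat.{u}) (φ : k →+* A) (ψ : A →+* B) (jX : Spec A ⟶ X) (jY : Spec B ⟶ Y) (P : Spec B),
      IsOpenImmersion jX ∧ IsOpenImmersion jY ∧ φ.FiniteType ∧ (ψ.comp φ).FiniteType ∧
      jX ≫ p = Spec.map (CommRingCat.ofHom φ) ∧ jY ≫ f = Spec.map (CommRingCat.ofHom ψ) ≫ jX ∧
      jY ≫ f ≫ p = Spec.map (CommRingCat.ofHom (ψ.comp φ)) ∧ jY P = y := by
  obtain ⟨A, φ, jX, Px, hjX, hφ, eX, hPx⟩ := exists_chart p (f y)
  obtain ⟨W, hW, hyW, hWU⟩ := exists_isAffineOpen_mem_and_subset (U := f ⁻¹ᵁ jX.opensRange) (x := y)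
    (show f y ∈ Set.range jX from ⟨Px, hPx⟩)
  obtain ⟨P, hP⟩ : y ∈ Set.range hW.fromSpec := by rw [hW.range_fromSpec]; exact hyW
  have hsub : Set.range (hW.fromSpec ≫ f) ⊆ Set.range jX := by
    rintro _ ⟨z, rfl⟩
    have hz : hW.fromSpec z ∈ (W : Set Y) := hW.range_fromSpec.subset (Set.mem_range_self z)
    exact hWU hz
  obtain ⟨ψ, hψ⟩ := Spec.map_surjective (IsOpenImmersion.lift jX (hW.fromSpec ≫ f) hsub)
  have e1 : hW.fromSpec ≫ f = Spec.map ψ ≫ jX := by rw [hψ, IsOpenImmersion.lift_fac]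
  have e2 : hW.fromSpec ≫ f ≫ p = Spec.map (CommRingCat.ofHom φ ≫ ψ) := by
    rw [Spec.map_comp, ← eX, ← Category.assoc, e1, Category.assoc]
  refine ⟨A, Γ(Y, W), φ, ψ.hom, jX, hW.fromSpec, P, hjX, inferInstance, hφ, ?_, eX, e1, e2, hP⟩
  have : LocallyOfFiniteType (Spec.map (CommRingCat.ofHom φ ≫ ψ)) := by rw [← e2]; infer_instance
  exact (HasRingHomProperty.Spec_iff (P := @LocallyOfFiniteType)).1 this

/-- Lower bound: a component of a fibre of `closure {η}` has dimension at least the relative dimension. -/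
theorem ptDim_add_le_of_minimal (p : X ⟶ Spec (.of k)) (f : Y ⟶ X) [LocallyOfFiniteType p]
    [LocallyOfFiniteType (f ≫ p)] {η x : Y} (h : η ⤳ x)
    (hmin : ∀ z, η ⤳ z → z ⤳ x → f z = f x → z = x) :
    ptDim p (f x) + ptDim (f ≫ p) η ≤ ptDim p (f η) + ptDim (f ≫ p) x := by
  obtain ⟨A, B, φ, ψ, jX, jY, P, hjX, hjY, hφ, hψφ, eX, eY, eYk, rfl⟩ := exists_chart_morphism p f x
  obtain ⟨Q, rfl⟩ : ∃ Q : Spec B, jY Q = η := h.mem_open jY.isOpenEmbedding.isOpen_range ⟨P, rfl⟩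
  have hf : ∀ z : Spec B, f (jY z) = jX (Spec.map (CommRingCat.ofHom ψ) z) := fun z => by
    rw [← Scheme.Hom.comp_apply, eY, Scheme.Hom.comp_apply]
  have hQP : (Q : PrimeSpectrum B).asIdeal ≤ P.asIdeal :=
    ((PrimeSpectrum.le_iff_specializes _ _).2 (jY.isOpenEmbedding.isInducing.specializes_iff.1 h) :)
  algebraize [φ, ψ, ψ.comp φ]
  have : Q.asIdeal.LiesOver (Q.asIdeal.under A) := ⟨rfl⟩
  let q := Q.asIdeal.under A
  let P' := P.asIdeal.map (Ideal.Quotient.mk Q.asIdeal)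
  have hP' : P'.IsPrime := Ideal.map_isPrime_of_surjective Ideal.Quotient.mk_surjective (by rw [Ideal.mk_ker]; exact hQP)
  have hc : P'.comap (Ideal.Quotient.mk Q.asIdeal) = P.asIdeal := by
    rw [Ideal.comap_map_of_surjective _ Ideal.Quotient.mk_surjective, ← RingHom.ker_eq_comap_bot, Ideal.mk_ker, sup_eq_left.2 hQP]
  have hu : P'.under (A ⧸ q) = (P.asIdeal.under A).map (Ideal.Quotient.mk q) := by
    rw [← Ideal.map_comap_of_surjective (Ideal.Quotient.mk q) Ideal.Quotient.mk_surjective (P'.under (A ⧸ q))]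
    congr 1
    show ((P'.comap (algebraMap (A ⧸ q) (B ⧸ Q.asIdeal))).comap (Ideal.Quotient.mk q)) = P.asIdeal.comap (algebraMap A B)
    rw [← hc, Ideal.comap_comap, Ideal.comap_comap]
    rfl
  have key := ringKrullDim_add_le_of_minimal (k := k) (A := A ⧸ q) (B := B ⧸ Q.asIdeal) P' ?_
  · rw [hu, ringKrullDim_eq_of_ringEquiv (DoubleQuot.quotQuotEquivQuotOfLE (show q ≤ P.asIdeal.under A from Ideal.comap_mono hQP)),
      ringKrullDim_eq_of_ringEquiv (DoubleQuot.quotQuotEquivQuotOfLE (show (Q.asIdeal : Ideal B) ≤ P.asIdeal from hQP))] at key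
    have e1 : ringKrullDim (B ⧸ P.asIdeal) = (ptDim (f ≫ p) (jY P) : WithBot ℕ∞) := ptDim_chart (f ≫ p) (ψ.comp φ) hψφ jY eYk P
    have e2 : ringKrullDim (B ⧸ Q.asIdeal) = (ptDim (f ≫ p) (jY Q) : WithBot ℕ∞) := ptDim_chart (f ≫ p) (ψ.comp φ) hψφ jY eYk Q
    have e3 : ringKrullDim (A ⧸ P.asIdeal.under A) = (ptDim p (f (jY P)) : WithBot ℕ∞) := by
      rw [hf]; exact ptDim_chart p φ hφ jX eX (Spec.map (CommRingCat.ofHom ψ) P)
    have e4 : ringKrullDim (A ⧸ q) = (ptDim p (f (jY Q)) : WithBot ℕ∞) := by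
      rw [hf]; exact ptDim_chart p φ hφ jX eX (Spec.map (CommRingCat.ofHom ψ) Q)
    rw [e1, e2, e3, e4] at key
    exact_mod_cast key
  · intro J hJ hle hJP
    let z : Spec B := (⟨J.comap (Ideal.Quotient.mk Q.asIdeal), hJ.comap _⟩ : PrimeSpectrum B)
    have hQz : Q.asIdeal ≤ z.asIdeal := le_trans (Ideal.mk_ker (I := Q.asIdeal)).ge (Ideal.ker_le_comap _)
    have hzP : z.asIdeal ≤ P.asIdeal := hc ▸ Ideal.comap_mono hJP
    have hz : Spec.map (CommRingCat.ofHom ψ) z = Spec.map (CommRingCat.ofHom ψ) P := by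
      apply PrimeSpectrum.ext
      refine le_antisymm (Ideal.comap_mono hzP) ?_
      intro a ha
      show Ideal.Quotient.mk Q.asIdeal (algebraMap A B a) ∈ J
      refine hle ?_
      rw [hu, Ideal.map_map]
      exact Ideal.mem_map_of_mem _ (show a ∈ P.asIdeal.under A from ha)
    have := hmin (jY z) (((PrimeSpectrum.le_iff_specializes (Q : PrimeSpectrum B) z).1 hQz).map jY.continuous)
      (((PrimeSpectrum.le_iff_specializes (z : PrimeSpectrum B) P).1 hzP).map jY.continuous) (by rw [hf, hf, hz])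
    have e : z.asIdeal = P.asIdeal := congrArg PrimeSpectrum.asIdeal (jY.isOpenEmbedding.injective this)
    rw [← Ideal.map_comap_of_surjective (Ideal.Quotient.mk Q.asIdeal) Ideal.Quotient.mk_surjective J]
    exact congrArg (Ideal.map _) e

/-- Upper bound over a neighbourhood of the image of the generic point. -/
theorem exists_open_ptDim_add_le (p : X ⟶ Spec (.of k)) (f : Y ⟶ X) [LocallyOfFiniteType p]
    [LocallyOfFiniteType (f ≫ p)] [QuasiCompact (f ≫ p)] (η : Y) :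
    ∃ V : X.Opens, f η ∈ V ∧ ∀ x, η ⤳ x → f x ∈ V →
      ptDim (f ≫ p) x + ptDim p (f η) ≤ ptDim p (f x) + ptDim (f ≫ p) η := by
  classical
  have : IsLocallyNoetherian Y := LocallyOfFiniteType.isLocallyNoetherian (f ≫ p)
  have : CompactSpace Y := QuasiCompact.compactSpace_of_compactSpace (f ≫ p)
  have : IsNoetherian Y := {}
  induction hn : ptDim (f ≫ p) η using Nat.strong_induction_on generalizing η with
  | _ n ih =>
  subst hn
  obtain ⟨A, B, φ, ψ, jX, jY, Q, hjX, hjY, hφ, hψφ, eX, eY, eYk, rfl⟩ := exists_chart_morphism p f η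
  have hf : ∀ z : Spec B, f (jY z) = jX (Spec.map (CommRingCat.ofHom ψ) z) := fun z => by
    rw [← Scheme.Hom.comp_apply, eY, Scheme.Hom.comp_apply]
  algebraize [φ, ψ, ψ.comp φ]
  have : Q.asIdeal.LiesOver (Q.asIdeal.under A) := ⟨rfl⟩
  let q := Q.asIdeal.under A
  obtain ⟨c', hc', hbound⟩ := exists_ne_zero_ringKrullDim_add_le (k := k) (A := A ⧸ q) (B := B ⧸ Q.asIdeal)
    Ideal.algebraMap_quotient_injective
  obtain ⟨c, rfl⟩ := Ideal.Quotient.mk_surjective c'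
  have hcQ : c ∉ Q.asIdeal := fun h => hc' (Ideal.Quotient.eq_zero_iff_mem.2 h)
  let W : Set Y := jY '' (PrimeSpectrum.basicOpen c : Set (PrimeSpectrum B))
  have hW : IsOpen W := jY.isOpenEmbedding.isOpenMap _ (PrimeSpectrum.basicOpen c).isOpen
  have hηW : jY Q ∈ W := ⟨Q, hcQ, rfl⟩
  obtain ⟨S, hS, hScl, hSirr, hSeq⟩ := TopologicalSpace.NoetherianSpace.exists_finite_set_isClosed_irreducible
    (s := closure {jY Q} ∩ Wᶜ) (isClosed_closure.inter hW.isClosed_compl)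
  have hgen : ∀ Z ∈ S, ∃ V : X.Opens, f (jY Q) ∈ V ∧ ∀ x ∈ Z, f x ∈ V →
      ptDim (f ≫ p) x + ptDim p (f (jY Q)) ≤ ptDim p (f x) + ptDim (f ≫ p) (jY Q) := by
    intro Z hZ
    obtain ⟨z, hz⟩ := QuasiSober.sober (hSirr Z hZ) (hScl Z hZ)
    have hzZ : z ∈ closure {jY Q} ∩ Wᶜ := hSeq ▸ Set.mem_sUnion_of_mem hz.mem hZ
    have hlt := ptDim_lt_of_specializes (f ≫ p) (specializes_iff_mem_closure.2 hzZ.1) (fun e => hzZ.2 (e ▸ hηW))
    obtain ⟨V, hV, hVb⟩ := ih _ hlt z rfl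
    by_cases e : f z = f (jY Q)
    · refine ⟨V, e ▸ hV, fun x hx hfx => ?_⟩
      have := hVb x (hz.specializes hx) hfx
      rw [e] at this
      omega
    · refine ⟨⟨(closure {f z})ᶜ, isClosed_closure.isOpen_compl⟩, fun hmem => e ?_, fun x hx hfx => absurd ?_ hfx⟩
      · exact ((specializes_iff_mem_closure.2 hmem).antisymm
          ((specializes_iff_mem_closure.2 hzZ.1).map f.continuous)).eq
      · exact specializes_iff_mem_closure.1 ((hz.specializes hx).map f.continuous)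
  choose V hV hVb using hgen
  refine ⟨⟨⋂ Z : S, (V Z.1 Z.2 : Set X), ?_⟩, Set.mem_iInter.2 fun Z => hV Z.1 Z.2, fun x hx hfx => ?_⟩
  · have : Finite S := hS
    exact isOpen_iInter_of_finite fun Z => (V Z.1 Z.2).isOpen
  by_cases hxW : x ∈ W
  · obtain ⟨P, hcP, rfl⟩ := hxW
    have hcP' : c ∉ P.asIdeal := hcP
    have hQP : (Q : PrimeSpectrum B).asIdeal ≤ P.asIdeal :=
      ((PrimeSpectrum.le_iff_specializes _ _).2 (jY.isOpenEmbedding.isInducing.specializes_iff.1 hx) :)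
    let P' := P.asIdeal.map (Ideal.Quotient.mk Q.asIdeal)
    have hP' : P'.IsPrime := Ideal.map_isPrime_of_surjective Ideal.Quotient.mk_surjective (by rw [Ideal.mk_ker]; exact hQP)
    have hc : P'.comap (Ideal.Quotient.mk Q.asIdeal) = P.asIdeal := by
      rw [Ideal.comap_map_of_surjective _ Ideal.Quotient.mk_surjective, ← RingHom.ker_eq_comap_bot, Ideal.mk_ker, sup_eq_left.2 hQP]
    have key := hbound P' hP' (fun h => hcP' (by rw [← hc]; exact h))
    have hu : P'.under (A ⧸ q) = (P.asIdeal.under A).map (Ideal.Quotient.mk q) := by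
      rw [← Ideal.map_comap_of_surjective (Ideal.Quotient.mk q) Ideal.Quotient.mk_surjective (P'.under (A ⧸ q))]
      congr 1
      show ((P'.comap (algebraMap (A ⧸ q) (B ⧸ Q.asIdeal))).comap (Ideal.Quotient.mk q)) = P.asIdeal.comap (algebraMap A B)
      rw [← hc, Ideal.comap_comap, Ideal.comap_comap]
      rfl
    rw [hu, ringKrullDim_eq_of_ringEquiv (DoubleQuot.quotQuotEquivQuotOfLE (show q ≤ P.asIdeal.under A from Ideal.comap_mono hQP)),
      ringKrullDim_eq_of_ringEquiv (DoubleQuot.quotQuotEquivQuotOfLE (show (Q.asIdeal : Ideal B) ≤ P.asIdeal from hQP))] at key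
    have e1 : ringKrullDim (B ⧸ P.asIdeal) = (ptDim (f ≫ p) (jY P) : WithBot ℕ∞) := ptDim_chart (f ≫ p) (ψ.comp φ) hψφ jY eYk P
    have e2 : ringKrullDim (B ⧸ Q.asIdeal) = (ptDim (f ≫ p) (jY Q) : WithBot ℕ∞) := ptDim_chart (f ≫ p) (ψ.comp φ) hψφ jY eYk Q
    have e3 : ringKrullDim (A ⧸ P.asIdeal.under A) = (ptDim p (f (jY P)) : WithBot ℕ∞) := by
      rw [hf]; exact ptDim_chart p φ hφ jX eX (Spec.map (CommRingCat.ofHom ψ) P)
    have e4 : ringKrullDim (A ⧸ q) = (ptDim p (f (jY Q)) : WithBot ℕ∞) := by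
      rw [hf]; exact ptDim_chart p φ hφ jX eX (Spec.map (CommRingCat.ofHom ψ) Q)
    rw [e1, e2, e3, e4] at key
    exact_mod_cast key
  · obtain ⟨Z, hZ, hxZ⟩ : x ∈ ⋃₀ S := hSeq ▸ ⟨specializes_iff_mem_closure.1 hx, hxW⟩
    exact hVb Z hZ x hxZ (Set.mem_iInter.1 hfx ⟨Z, hZ⟩)

end Groth.Agent.DimLib
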