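import Groth.Agent.CommAlg6.PolyHeight

/-! The dimension inequality `ht q + trdeg κ(q)/κ(p) ≤ ht p + trdeg S/R`. -/

set_option autoImplicit false
universe u

open Polynomial

namespace Groth.Agent.DimLib

/-- A strictly monotone map avoiding a bottom element raises heights. -/
theorem height_add_one_le_of_strictMono {α β : Type*} [Preorder α] [Preorder β] (f : α → β)
    (hf : StrictMono f) (b : β) (hb : ∀ a, b < f a) (a : α) :
    Order.height a + 1 ≤ Order.height (f a) := by
  rcases hn : Order.height a with _ | n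
  · have := Order.height_le_height_apply_of_strictMono f hf a
    rw [hn] at this
    exact le_trans le_top this
  · obtain ⟨p, hp, hl⟩ := Order.exists_series_of_height_eq_coe a (n := n) hn
    have := Order.length_le_height (p := (p.map f hf).cons b (by simpa using hb p.head))
      (x := f a) (by simp [hp])
    show (n : ℕ∞) + 1 ≤ _
    simpa [hl] using this

theorem formula_single {R T : Type u} [CommRing R] [IsDomain R] [IsNoetherianRing R] [CommRing T] [IsDomain T]
    [Algebra R T] [FaithfulSMul R T] (x : T) (hx : Algebra.adjoin R {x} = ⊤)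
    (p : Ideal R) [p.IsPrime] (q : Ideal T) [q.IsPrime] [q.LiesOver p] :
    (q.height : Cardinal.{u}) + Algebra.trdeg (R ⧸ p) (T ⧸ q) ≤
      (p.height : Cardinal.{u}) + Algebra.trdeg R T := by
  classical
  let φ : R[X] →ₐ[R] T := aeval x
  have hφ : Function.Surjective φ := by
    rw [← AlgHom.range_eq_top, ← Algebra.adjoin_singleton_eq_range_aeval, hx]
  let qt : Ideal R[X] := q.comap φ
  have : qt.IsPrime := Ideal.comap_isPrime φ q
  have : qt.LiesOver p := ⟨by
    rw [q.over_def p]
    ext a
    simp [qt, Ideal.under, φ]⟩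
  let ψ : (R[X] ⧸ qt) →ₐ[R ⧸ p] (T ⧸ q) :=
    { Ideal.quotientMap q φ.toRingHom le_rfl with
      commutes' := fun r => by
        obtain ⟨r, rfl⟩ := Ideal.Quotient.mk_surjective r
        show Ideal.Quotient.mk q (φ (algebraMap R R[X] r)) = Ideal.Quotient.mk q (algebraMap R T r)
        rw [AlgHom.commutes] }
  let e : (R[X] ⧸ qt) ≃ₐ[R ⧸ p] (T ⧸ q) := AlgEquiv.ofBijective ψ ⟨Ideal.quotientMap_injective,
    Ideal.quotientMap_surjective (H := le_rfl) hφ⟩
  have ht : Algebra.trdeg (R ⧸ p) (T ⧸ q) = if qt = p.map (C : R →+* R[X]) then 1 else 0 := by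
    rw [← e.trdeg_eq]
    split_ifs with h
    · have he : ∀ (J : Ideal R[X]) [J.LiesOver p], J = p.map (C : R →+* R[X]) →
          Algebra.trdeg (R ⧸ p) (R[X] ⧸ J) = 1 := by
        rintro J _ rfl
        exact CommAlg6.trdeg_eq_one_of_eq p
      exact he qt h
    · exact CommAlg6.trdeg_eq_zero_of_ne p qt h
  have hh : qt.height = if qt = p.map (C : R →+* R[X]) then p.height else p.height + 1 := by
    split_ifs with h
    · rw [h, CommAlg6.height_map_C']
    · exact CommAlg6.height_eq_add_one p qt h
  rw [ht]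
  by_cases hinj : Function.Injective φ
  · let eφ := AlgEquiv.ofBijective φ ⟨hinj, hφ⟩
    have hq : q.height = qt.height := (eφ.toRingEquiv.height_comap q).symm
    have hT : Algebra.trdeg R T = 1 := by rw [← eφ.trdeg_eq, Polynomial.trdeg_of_isDomain]
    rw [hq, hh, hT]
    split_ifs <;> simp [Cardinal.ofENat_add]
  · have hQ : RingHom.ker φ ≠ ⊥ := fun h => hinj ((RingHom.injective_iff_ker_eq_bot φ).2 h)
    obtain ⟨g, hg, hg0⟩ := Submodule.exists_mem_ne_zero_of_ne_bot hQ
    have halg : Algebra.IsAlgebraic R T := ⟨fun t => by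
      have hxa : IsAlgebraic R x := ⟨g, hg0, hg⟩
      have : t ∈ Algebra.adjoin R {x} := hx ▸ trivial
      induction this using Algebra.adjoin_induction with
      | mem y hy => rw [Set.mem_singleton_iff] at hy; exact hy ▸ hxa
      | algebraMap r => exact isAlgebraic_algebraMap r
      | add _ _ _ _ h1 h2 => exact h1.add h2
      | mul _ _ _ _ h1 h2 => exact h1.mul h2⟩
    have hlt : q.height + 1 ≤ qt.height := by
      let q0 : PrimeSpectrum T := ⟨q, inferInstance⟩
      refine (add_le_add (PrimeSpectrum.height_eq_orderHeight q0).le le_rfl).trans ?_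
      refine le_trans (height_add_one_le_of_strictMono (PrimeSpectrum.comap φ.toRingHom) ?_ ⊥ ?_ q0)
        (PrimeSpectrum.height_eq_orderHeight (PrimeSpectrum.comap φ.toRingHom q0)).ge
      · exact Monotone.strictMono_of_injective (fun a b h => Ideal.comap_mono h)
          (PrimeSpectrum.comap_injective_of_surjective _ hφ)
      · intro a
        refine lt_of_le_of_ne bot_le fun h => hg0 ?_
        have : g ∈ (PrimeSpectrum.comap φ.toRingHom a).asIdeal := by
          show φ g ∈ a.asIdeal
          rw [show φ g = 0 from hg]; exact zero_mem _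
        rwa [← h] at this
    rw [trdeg_eq_zero, add_zero]
    rw [hh] at hlt
    split_ifs at hlt ⊢ with h
    · rw [← Cardinal.ofENat_one, ← Cardinal.ofENat_add]; exact Cardinal.ofENat_le_ofENat.2 hlt
    · rw [add_zero]; exact Cardinal.ofENat_le_ofENat.2 ((ENat.add_le_add_iff_right ENat.one_ne_top).1 hlt)

theorem formula_aux {R : Type u} [CommRing R] [IsDomain R] [IsNoetherianRing R] (p : Ideal R) [p.IsPrime] :
    ∀ (n : ℕ) (S : Type u) [CommRing S] [IsDomain S] [Algebra R S] [FaithfulSMul R S] (g : Fin n → S),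
      Algebra.adjoin R (Set.range g) = ⊤ → ∀ (q : Ideal S) [q.IsPrime] [q.LiesOver p],
      (q.height : Cardinal.{u}) + Algebra.trdeg (R ⧸ p) (S ⧸ q) ≤
        (p.height : Cardinal.{u}) + Algebra.trdeg R S
  | 0, S, _, _, _, _, g, hg, q, _, _ => by
    have hsurj : Function.Surjective (algebraMap R S) := by
      intro s
      have : s ∈ Algebra.adjoin R (Set.range g) := hg ▸ trivial
      rwa [Set.range_eq_empty g, Algebra.adjoin_empty, Algebra.mem_bot] at this
    let e : R ≃+* S := RingEquiv.ofBijective (algebraMap R S) ⟨FaithfulSMul.algebraMap_injective R S, hsurj⟩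
    have hq : q.height = p.height := by
      rw [q.over_def p]; exact (e.height_comap q).symm
    have h1 : Algebra.IsAlgebraic R S := ⟨fun s => by
      obtain ⟨r, rfl⟩ := hsurj s; exact isAlgebraic_algebraMap r⟩
    have h2 : Algebra.IsAlgebraic (R ⧸ p) (S ⧸ q) := ⟨fun s => by
      obtain ⟨s, rfl⟩ := Ideal.Quotient.mk_surjective s
      obtain ⟨r, rfl⟩ := hsurj s
      exact isAlgebraic_algebraMap (Ideal.Quotient.mk p r)⟩
    rw [trdeg_eq_zero, trdeg_eq_zero, hq]
  | n + 1, S, _, _, _, _, g, hg, q, _, _ => by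
    classical
    let T := Algebra.adjoin R (Set.range (g ∘ Fin.castSucc))
    let g' : Fin n → T := fun i => ⟨g i.castSucc, Algebra.subset_adjoin ⟨i, rfl⟩⟩
    have hg' : Algebra.adjoin R (Set.range g') = ⊤ := by
      refine top_unique fun t _ => ?_
      obtain ⟨t, ht⟩ := t
      induction ht using Algebra.adjoin_induction with
      | mem y hy => obtain ⟨i, rfl⟩ := hy; exact Algebra.subset_adjoin ⟨i, rfl⟩
      | algebraMap r => exact Subalgebra.algebraMap_mem _ r
      | add a b ha hb h1 h2 => exact add_mem (h1 trivial) (h2 trivial)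
      | mul a b ha hb h1 h2 => exact mul_mem (h1 trivial) (h2 trivial)
    have : Algebra.FiniteType R T := ⟨⟨Finset.univ.image g', by rw [Finset.coe_image, Finset.coe_univ, Set.image_univ, hg']⟩⟩
    have : IsNoetherianRing T := Algebra.FiniteType.isNoetherianRing R T
    have : FaithfulSMul R T := (faithfulSMul_iff_algebraMap_injective R T).2 fun a b h =>
      FaithfulSMul.algebraMap_injective R S (congrArg Subtype.val h)
    have : FaithfulSMul T S := (faithfulSMul_iff_algebraMap_injective T S).2 Subtype.val_injective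
    let qT := q.under T
    have : qT.LiesOver p := ⟨by rw [q.over_def p]; rfl⟩
    have hTS : Algebra.adjoin T {g (Fin.last n)} = ⊤ := by
      refine top_unique fun s _ => ?_
      have : s ∈ Algebra.adjoin R (Set.range g) := hg ▸ trivial
      induction this using Algebra.adjoin_induction with
      | mem y hy =>
        obtain ⟨i, rfl⟩ := hy
        induction i using Fin.lastCases with
        | last => exact Algebra.subset_adjoin rfl
        | cast i => exact Subalgebra.algebraMap_mem _ (g' i)
      | algebraMap r => exact Subalgebra.algebraMap_mem _ (algebraMap R T r)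
      | add a b ha hb h1 h2 => exact add_mem (h1 trivial) (h2 trivial)
      | mul a b ha hb h1 h2 => exact mul_mem (h1 trivial) (h2 trivial)
    have e1 := formula_aux p n T g' hg' qT
    have e2 := formula_single (R := T) (g (Fin.last n)) hTS qT q
    have : IsScalarTower (R ⧸ p) (T ⧸ qT) (S ⧸ q) := .of_algebraMap_eq fun r => by
      obtain ⟨r, rfl⟩ := Ideal.Quotient.mk_surjective r
      rfl
    have hf1 : FaithfulSMul (R ⧸ p) (T ⧸ qT) := inferInstance
    have hf2 : FaithfulSMul (T ⧸ qT) (S ⧸ q) := inferInstance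
    have a1 := trdeg_add_eq R T (A := S)
    have a2 := trdeg_add_eq (R ⧸ p) (T ⧸ qT) (A := S ⧸ q)
    rw [← a1, ← a2]
    calc (q.height : Cardinal.{u}) + (Algebra.trdeg (R ⧸ p) (T ⧸ qT) + Algebra.trdeg (T ⧸ qT) (S ⧸ q))
        = ((q.height : Cardinal.{u}) + Algebra.trdeg (T ⧸ qT) (S ⧸ q)) + Algebra.trdeg (R ⧸ p) (T ⧸ qT) := by
          rw [add_assoc, add_comm (Algebra.trdeg (R ⧸ p) (T ⧸ qT))]
      _ ≤ ((qT.height : Cardinal.{u}) + Algebra.trdeg T S) + Algebra.trdeg (R ⧸ p) (T ⧸ qT) := add_le_add e2 le_rfl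
      _ = ((qT.height : Cardinal.{u}) + Algebra.trdeg (R ⧸ p) (T ⧸ qT)) + Algebra.trdeg T S := by
          rw [add_assoc, add_comm (Algebra.trdeg T S), ← add_assoc]
      _ ≤ ((p.height : Cardinal.{u}) + Algebra.trdeg R T) + Algebra.trdeg T S := add_le_add e1 le_rfl
      _ = _ := add_assoc _ _ _

/-- The dimension inequality. -/
theorem height_add_trdeg_le {R : Type u} [CommRing R] [IsDomain R] [IsNoetherianRing R] {S : Type u}
    [CommRing S] [IsDomain S] [Algebra R S] [FaithfulSMul R S] [Algebra.FiniteType R S]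
    (p : Ideal R) [p.IsPrime] (q : Ideal S) [q.IsPrime] [q.LiesOver p] :
    (q.height : Cardinal.{u}) + Algebra.trdeg (R ⧸ p) (S ⧸ q) ≤
      (p.height : Cardinal.{u}) + Algebra.trdeg R S := by
  obtain ⟨s, hs⟩ := (inferInstance : Algebra.FiniteType R S).out
  let g : Fin s.card → S := fun i => (s.equivFin.symm i : S)
  refine formula_aux p s.card S g ?_ q
  rw [← hs]
  congr 1
  ext x
  refine ⟨fun ⟨i, hi⟩ => hi ▸ (s.equivFin.symm i).2, fun h => ⟨s.equivFin ⟨x, h⟩, by simp [g]⟩⟩

/-- Algebraic case: heights do not increase. -/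
theorem height_le_of_isAlgebraic {R : Type u} [CommRing R] [IsDomain R] [IsNoetherianRing R] {S : Type u}
    [CommRing S] [IsDomain S] [Algebra R S] [FaithfulSMul R S] [Algebra.FiniteType R S] [Algebra.IsAlgebraic R S]
    (p : Ideal R) [p.IsPrime] (q : Ideal S) [q.IsPrime] [q.LiesOver p] : q.height ≤ p.height := by
  have h := (self_le_add_right _ _).trans (height_add_trdeg_le (S := S) p q)
  rw [trdeg_eq_zero, add_zero] at h
  exact Cardinal.ofENat_le_ofENat.1 h

end Groth.Agent.DimLib
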