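import Groth.Agent.DimLib.Sub

/-! Nowhere dense subsets and maximal points. -/

universe u

open CategoryTheory AlgebraicGeometry

namespace Groth.Agent.DimLib

variable {k : Type u} [Field k] {X : Scheme.{u}}

theorem notMem_of_maximal_of_interior_eq_empty (p : X ⟶ Spec (CommRingCat.of k)) [LocallyOfFiniteType p]
    {S : Set X} (hS : IsClosed S) (hi : interior S = ∅) {η : X} (hη : ∀ z, z ⤳ η → η = z) : η ∉ S := by
  intro hmem
  obtain ⟨V, hV, hηV, -⟩ := TopologicalSpace.Opens.isBasis_iff_nbhd.1 X.isBasis_affineOpens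
    (show η ∈ (⊤ : X.Opens) from trivial)
  have : IsAffine (V : Scheme.{u}) := hV
  have : IsLocallyNoetherian X := LocallyOfFiniteType.isLocallyNoetherian p
  have : AlgebraicGeometry.IsNoetherian (V : Scheme.{u}) := {}
  let a : (V : Scheme.{u}) := ⟨η, hηV⟩
  have ha : ∀ z, z ⤳ a → a = z := fun z hz =>
    (Scheme.Opens.ι V).isEmbedding.injective (hη _ (hz.map (Scheme.Opens.ι V).continuous))
  obtain ⟨a', U, ha', hU, haU, hUZ, -⟩ := exists_component_data (closure_mem_components ha)
  have hsub : Scheme.Opens.ι V '' U ⊆ S := by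
    rintro _ ⟨u, hu, rfl⟩
    exact ((specializes_iff_mem_closure.2 (hUZ hu)).map (Scheme.Opens.ι V).continuous).mem_closed hS hmem
  have h := interior_maximal hsub ((Scheme.Opens.ι V).isOpenEmbedding.isOpenMap U hU)
  rw [hi] at h
  exact h ⟨a', haU, rfl⟩

/-- A locally closed subset whose closure has nonempty interior contains a maximal point. -/
theorem exists_maximal_mem_of_interior_nonempty {S : Set X} (hS : IsLocallyClosed S)
    (h : (interior (closure S)).Nonempty) : ∃ η ∈ S, ∀ z, z ⤳ η → η = z := by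
  obtain ⟨U, Z, hU, hZ, rfl⟩ := hS
  obtain ⟨x, hx⟩ := h
  obtain ⟨z, hzW, hz⟩ := mem_closure_iff.1 (interior_subset hx) _ isOpen_interior hx
  obtain ⟨η, hη, hmax⟩ := exists_maximal_specializes z
  refine ⟨η, ⟨hη.mem_open hU hz.1, ?_⟩, hmax⟩
  have h1 : η ∈ closure (U ∩ Z) := interior_subset (hη.mem_open isOpen_interior hzW)
  exact closure_minimal Set.inter_subset_right hZ h1

end Groth.Agent.DimLib
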