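import Groth.Agent.DimLib.Tensor
import Groth.Agent.DimLib.Maximal
import Mathlib.AlgebraicGeometry.Pullbacks
import Mathlib.AlgebraicGeometry.Morphisms.Immersion

/-! Dimension of products and of base changes of field. -/

universe u

open CategoryTheory CategoryTheory.Limits AlgebraicGeometry TensorProduct

namespace Groth.Agent.DimLib

variable {k : Type u} [Field k] {X Y : Scheme.{u}}

instance isStableUnderComposition_isImmersion :
    MorphismProperty.IsStableUnderComposition @IsImmersion.{u} :=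
  MorphismProperty.IsMultiplicative.toIsStableUnderComposition

/-- A point is the generic point of an immersed affine domain of finite type. -/
theorem exists_domain_chart (f : X ⟶ Spec (.of k)) [LocallyOfFiniteType f] (x : X) :
    ∃ (A : CommRingCat.{u}) (_ : IsDomain A) (φ : k →+* A) (i : Spec A ⟶ X), IsImmersion i ∧ φ.FiniteType ∧
      i ≫ f = Spec.map (CommRingCat.ofHom φ) ∧
      (∀ P : Spec A, i P = x ↔ (show PrimeSpectrum A from P).asIdeal = ⊥) ∧
      ringKrullDim A = (ptDim f x : WithBot ℕ∞) := by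
  obtain ⟨A, φ, j, P, hj, hφ, e, rfl⟩ := exists_chart f x
  obtain ⟨P, rfl⟩ : ∃ P' : PrimeSpectrum A, P' = P := ⟨P, rfl⟩
  have hP : P.asIdeal.IsPrime := P.isPrime
  let q := Ideal.Quotient.mk P.asIdeal
  have hcl : IsClosedImmersion (Spec.map (CommRingCat.ofHom q)) :=
    IsClosedImmersion.spec_of_surjective _ Ideal.Quotient.mk_surjective
  refine ⟨CommRingCat.of (A ⧸ P.asIdeal), (inferInstance : IsDomain (A ⧸ P.asIdeal)), q.comp φ,
    Spec.map (CommRingCat.ofHom q) ≫ j, inferInstance, hφ.comp_surjective Ideal.Quotient.mk_surjective, ?_, ?_,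
    ptDim_chart f φ hφ j e P⟩
  · rw [Category.assoc, e, ← Spec.map_comp]; rfl
  · intro Q
    rw [Scheme.Hom.comp_apply]
    refine ⟨fun h => ?_, fun h => congrArg _ (PrimeSpectrum.ext ?_)⟩
    · have h1 : (show PrimeSpectrum (A ⧸ P.asIdeal) from Q).asIdeal.comap q = P.asIdeal := congrArg PrimeSpectrum.asIdeal (j.isOpenEmbedding.injective h :)
      rw [← Ideal.map_comap_of_surjective q Ideal.Quotient.mk_surjective (show PrimeSpectrum (A ⧸ P.asIdeal) from Q).asIdeal, h1]
      exact Ideal.map_quotient_self _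
    · show (show PrimeSpectrum (A ⧸ P.asIdeal) from Q).asIdeal.comap q = P.asIdeal
      rw [show (show PrimeSpectrum (A ⧸ P.asIdeal) from Q).asIdeal = ⊥ from h, ← RingHom.ker_eq_comap_bot, Ideal.mk_ker]

/-- Core statement for products. -/
theorem exists_specializes_product (f : X ⟶ Spec (.of k)) (g : Y ⟶ Spec (.of k)) [LocallyOfFiniteType f]
    [LocallyOfFiniteType g] (z : ↥(pullback f g)) :
    ∃ w, w ⤳ z ∧ pullback.fst f g w = pullback.fst f g z ∧ pullback.snd f g w = pullback.snd f g z ∧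
      ptDim (pullback.fst f g ≫ f) w = ptDim f (pullback.fst f g z) + ptDim g (pullback.snd f g z) := by
  obtain ⟨A, hA, φ, i, hi, hφ, e, hpt, hdim⟩ := exists_domain_chart f (pullback.fst f g z)
  obtain ⟨B, hB, φ', i', hi', hφ', e', hpt', hdim'⟩ := exists_domain_chart g (pullback.snd f g z)
  algebraize [φ, φ']
  let mm := pullback.map (Spec.map (CommRingCat.ofHom (algebraMap k A)))
    (Spec.map (CommRingCat.ofHom (algebraMap k B))) f g i i' (𝟙 _) (by rw [Category.comp_id]; exact e.symm)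
    (by rw [Category.comp_id]; exact e'.symm)
  have hmm : IsImmersion mm := MorphismProperty.pullbackMap (P := @IsImmersion.{u}) hi hi' e.symm e'.symm
  let m : Spec (CommRingCat.of (A ⊗[k] B)) ⟶ pullback f g := (pullbackSpecIso k A B).inv ≫ mm
  have hm1 : m ≫ pullback.fst f g =
      Spec.map (CommRingCat.ofHom (Algebra.TensorProduct.includeLeftRingHom : A →+* A ⊗[k] B)) ≫ i := by
    simp only [m, mm, Category.assoc, pullback.lift_fst]
    rw [pullbackSpecIso_inv_fst_assoc]
  have hm2 : m ≫ pullback.snd f g =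
      Spec.map (CommRingCat.ofHom (Algebra.TensorProduct.includeRight : B →ₐ[k] A ⊗[k] B).toRingHom) ≫ i' := by
    simp only [m, mm, Category.assoc, pullback.lift_snd]
    rw [pullbackSpecIso_inv_snd_assoc]
    rfl
  have hmk : m ≫ pullback.fst f g ≫ f = Spec.map (CommRingCat.ofHom
      ((Algebra.TensorProduct.includeLeftRingHom : A →+* A ⊗[k] B).comp (algebraMap k A))) := by
    rw [← Category.assoc, hm1, Category.assoc, e, ← Spec.map_comp]; rfl
  obtain ⟨Pa, hPa⟩ : pullback.fst f g z ∈ Set.range i :=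
    ⟨(⟨⊥, Ideal.isPrime_bot⟩ : PrimeSpectrum A), (hpt _).2 rfl⟩
  obtain ⟨Pb, hPb⟩ : pullback.snd f g z ∈ Set.range i' :=
    ⟨(⟨⊥, Ideal.isPrime_bot⟩ : PrimeSpectrum B), (hpt' _).2 rfl⟩
  obtain ⟨Q, hQ⟩ : z ∈ Set.range m := by
    have hr : Set.range m = Set.range mm := by
      simp only [m, Scheme.Hom.comp_base, TopCat.coe_comp, Set.range_comp]
      rw [(Scheme.Hom.surjective (pullbackSpecIso k A B).inv).range_eq, Set.image_univ]
    rw [hr, Scheme.Pullback.range_map]
    exact ⟨⟨Pa, hPa⟩, ⟨Pb, hPb⟩⟩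
  have hQi : (show PrimeSpectrum (A ⊗[k] B) from Q).asIdeal.IsPrime := (show PrimeSpectrum (A ⊗[k] B) from Q).isPrime
  obtain ⟨Q₀, hQ₀, hle⟩ := Ideal.exists_minimalPrimes_le (bot_le : ⊥ ≤ (show PrimeSpectrum (A ⊗[k] B) from Q).asIdeal)
  have hQ₀' : Q₀ ∈ minimalPrimes (A ⊗[k] B) := hQ₀
  let W : Spec (CommRingCat.of (A ⊗[k] B)) := (⟨Q₀, hQ₀.1.1⟩ : PrimeSpectrum (A ⊗[k] B))
  have hw1 : pullback.fst f g (m W) = pullback.fst f g z := by
    rw [← Scheme.Hom.comp_apply, hm1, Scheme.Hom.comp_apply]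
    exact (hpt _).2 (comap_includeLeft_minimalPrime k A B hQ₀')
  have hw2 : pullback.snd f g (m W) = pullback.snd f g z := by
    rw [← Scheme.Hom.comp_apply, hm2, Scheme.Hom.comp_apply]
    exact (hpt' _).2 (comap_includeRight_minimalPrime k A B hQ₀')
  refine ⟨m W, ?_, hw1, hw2, ?_⟩
  · rw [← hQ]
    exact ((PrimeSpectrum.le_iff_specializes (show PrimeSpectrum (A ⊗[k] B) from W) (show PrimeSpectrum (A ⊗[k] B) from Q)).1 hle).map m.continuous
  · have : LocallyOfFiniteType (pullback.fst f g ≫ f) := inferInstance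
    have : IsImmersion m := inferInstanceAs (IsImmersion (_ ≫ mm))
    rw [← ptDim_comp_preimmersion (pullback.fst f g ≫ f) m, hmk]
    have hft : ((Algebra.TensorProduct.includeLeftRingHom : A →+* A ⊗[k] B).comp (algebraMap k A)).FiniteType := by
      have : LocallyOfFiniteType (Spec.map (CommRingCat.ofHom
          ((Algebra.TensorProduct.includeLeftRingHom : A →+* A ⊗[k] B).comp (algebraMap k A)))) := by
        rw [← hmk]; infer_instance
      exact (HasRingHomProperty.Spec_iff (P := @LocallyOfFiniteType)).1 this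
    have h1 := ringKrullDim_quotient_eq_ptDim (A := CommRingCat.of (A ⊗[k] B)) _ hft W
    have h2 := minimalPrime_tensor_domain k A B hQ₀'
    rw [hdim, hdim'] at h2
    exact_mod_cast h1.symm.trans h2

/-- Core statement for a base change of the field. -/
theorem exists_specializes_bc (f : X ⟶ Spec (.of k)) [LocallyOfFiniteType f] (K : Type u) [Field K]
    [Algebra k K] (z : ↥(pullback f (Spec.map (CommRingCat.ofHom (algebraMap k K))))) :
    ∃ w, w ⤳ z ∧ pullback.fst f (Spec.map (CommRingCat.ofHom (algebraMap k K))) w =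
        pullback.fst f (Spec.map (CommRingCat.ofHom (algebraMap k K))) z ∧
      ptDim (k := K) (pullback.snd f (Spec.map (CommRingCat.ofHom (algebraMap k K)))) w =
        ptDim f (pullback.fst f (Spec.map (CommRingCat.ofHom (algebraMap k K))) z) := by
  obtain ⟨A, hA, φ, i, hi, hφ, e, hpt, hdim⟩ := exists_domain_chart f (pullback.fst f (Spec.map (CommRingCat.ofHom (algebraMap k K))) z)
  algebraize [φ]
  let mm := pullback.map (Spec.map (CommRingCat.ofHom (algebraMap k A)))
    (Spec.map (CommRingCat.ofHom (algebraMap k K))) f (Spec.map (CommRingCat.ofHom (algebraMap k K))) i (𝟙 _) (𝟙 _) (by rw [Category.comp_id]; exact e.symm) (by simp)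
  have hmm : IsImmersion mm := MorphismProperty.pullbackMap (P := @IsImmersion.{u}) hi inferInstance e.symm (by simp)
  let m : Spec (CommRingCat.of (A ⊗[k] K)) ⟶ pullback f (Spec.map (CommRingCat.ofHom (algebraMap k K))) := (pullbackSpecIso k A K).inv ≫ mm
  have hm1 : m ≫ pullback.fst f (Spec.map (CommRingCat.ofHom (algebraMap k K))) =
      Spec.map (CommRingCat.ofHom (Algebra.TensorProduct.includeLeftRingHom : A →+* A ⊗[k] K)) ≫ i := by
    simp only [m, mm, Category.assoc, pullback.lift_fst]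
    rw [pullbackSpecIso_inv_fst_assoc]
  have hm2 : m ≫ pullback.snd f (Spec.map (CommRingCat.ofHom (algebraMap k K))) =
      Spec.map (CommRingCat.ofHom (Algebra.TensorProduct.includeRight : K →ₐ[k] A ⊗[k] K).toRingHom) := by
    simp only [m, mm, Category.assoc, pullback.lift_snd, Category.comp_id]
    rw [pullbackSpecIso_inv_snd]
    rfl
  obtain ⟨Pa, hPa⟩ : pullback.fst f (Spec.map (CommRingCat.ofHom (algebraMap k K))) z ∈ Set.range i :=
    ⟨(⟨⊥, Ideal.isPrime_bot⟩ : PrimeSpectrum A), (hpt _).2 rfl⟩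
  obtain ⟨Q, hQ⟩ : z ∈ Set.range m := by
    have hr : Set.range m = Set.range mm := by
      simp only [m, Scheme.Hom.comp_base, TopCat.coe_comp, Set.range_comp]
      rw [(Scheme.Hom.surjective (pullbackSpecIso k A K).inv).range_eq, Set.image_univ]
    rw [hr, Scheme.Pullback.range_map]
    exact ⟨⟨Pa, hPa⟩, ⟨_, rfl⟩⟩
  have hQi : (show PrimeSpectrum (A ⊗[k] K) from Q).asIdeal.IsPrime := (show PrimeSpectrum (A ⊗[k] K) from Q).isPrime
  obtain ⟨Q₀, hQ₀, hle⟩ := Ideal.exists_minimalPrimes_le (bot_le : ⊥ ≤ (show PrimeSpectrum (A ⊗[k] K) from Q).asIdeal)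
  have hQ₀' : Q₀ ∈ minimalPrimes (A ⊗[k] K) := hQ₀
  let W : Spec (CommRingCat.of (A ⊗[k] K)) := (⟨Q₀, hQ₀.1.1⟩ : PrimeSpectrum (A ⊗[k] K))
  refine ⟨m W, ?_, ?_, ?_⟩
  · rw [← hQ]
    exact ((PrimeSpectrum.le_iff_specializes (show PrimeSpectrum (A ⊗[k] K) from W) (show PrimeSpectrum (A ⊗[k] K) from Q)).1 hle).map m.continuous
  · rw [← Scheme.Hom.comp_apply, hm1, Scheme.Hom.comp_apply]
    exact (hpt _).2 (comap_includeLeft_minimalPrime k A K hQ₀')
  · have : IsImmersion m := inferInstanceAs (IsImmersion (_ ≫ mm))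
    rw [← ptDim_comp_preimmersion (k := K) (pullback.snd f (Spec.map (CommRingCat.ofHom (algebraMap k K)))) m, hm2]
    have hft : (Algebra.TensorProduct.includeRight : K →ₐ[k] A ⊗[k] K).toRingHom.FiniteType := by
      have : LocallyOfFiniteType (Spec.map (CommRingCat.ofHom
          (Algebra.TensorProduct.includeRight : K →ₐ[k] A ⊗[k] K).toRingHom)) := by
        rw [← hm2]; infer_instance
      exact (HasRingHomProperty.Spec_iff (P := @LocallyOfFiniteType)).1 this
    have h1 := ringKrullDim_quotient_eq_ptDim (k := K) (A := CommRingCat.of (A ⊗[k] K)) _ hft W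
    have h2 := minimalPrime_tensor_field k A K hQ₀'
    rw [hdim] at h2
    exact_mod_cast h1.symm.trans h2

end Groth.Agent.DimLib
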